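import Cfsg.Agent.Lib.Helper4.ONM.U2.E0
import Cfsg.Agent.Lib.Helper4.ONM.U2.E1
import Cfsg.Agent.Lib.Helper4.ONM.U2.E2
import Cfsg.Agent.Lib.Helper4.ONM.U2.E3
import Cfsg.Agent.Lib.Helper4.ONM.U2.E4
import Cfsg.Agent.Lib.Helper4.ONM.U2.E5
import Cfsg.Agent.Lib.Helper4.ONM.U2.E6
import Cfsg.Agent.Lib.Helper4.ONM.U2.E7
set_option autoImplicit false

/-! # The entries of the sparse certificate for the prime 2 -/

namespace Cfsg.Agent.Lib.Helper4.ONM

noncomputable def e2T0 (i : Nat) : Nat := Bool.rec (e2L1 i) (e2L2 i) (Nat.ble 2048 i)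
noncomputable def e2T1 (i : Nat) : Nat := Bool.rec (e2L0 i) (e2T0 i) (Nat.ble 1024 i)
noncomputable def e2T2 (i : Nat) : Nat := Bool.rec (e2L3 i) (e2L4 i) (Nat.ble 4096 i)
noncomputable def e2T3 (i : Nat) : Nat := Bool.rec (e2L5 i) (e2L6 i) (Nat.ble 6144 i)
noncomputable def e2T4 (i : Nat) : Nat := Bool.rec (e2T2 i) (e2T3 i) (Nat.ble 5120 i)
noncomputable def e2T5 (i : Nat) : Nat := Bool.rec (e2T1 i) (e2T4 i) (Nat.ble 3072 i)
noncomputable def e2T6 (i : Nat) : Nat := Bool.rec (e2L7 i) (e2L8 i) (Nat.ble 8192 i)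
noncomputable def e2T7 (i : Nat) : Nat := Bool.rec (e2L9 i) (e2L10 i) (Nat.ble 10240 i)
noncomputable def e2T8 (i : Nat) : Nat := Bool.rec (e2T6 i) (e2T7 i) (Nat.ble 9216 i)
noncomputable def e2T9 (i : Nat) : Nat := Bool.rec (e2L11 i) (e2L12 i) (Nat.ble 12288 i)
noncomputable def e2T10 (i : Nat) : Nat := Bool.rec (e2L13 i) (e2L14 i) (Nat.ble 14336 i)
noncomputable def e2T11 (i : Nat) : Nat := Bool.rec (e2T9 i) (e2T10 i) (Nat.ble 13312 i)
noncomputable def e2T12 (i : Nat) : Nat := Bool.rec (e2T8 i) (e2T11 i) (Nat.ble 11264 i)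
noncomputable def e2T13 (i : Nat) : Nat := Bool.rec (e2T5 i) (e2T12 i) (Nat.ble 7168 i)
noncomputable def e2T14 (i : Nat) : Nat := Bool.rec (e2L16 i) (e2L17 i) (Nat.ble 17408 i)
noncomputable def e2T15 (i : Nat) : Nat := Bool.rec (e2L15 i) (e2T14 i) (Nat.ble 16384 i)
noncomputable def e2T16 (i : Nat) : Nat := Bool.rec (e2L18 i) (e2L19 i) (Nat.ble 19456 i)
noncomputable def e2T17 (i : Nat) : Nat := Bool.rec (e2L20 i) (e2L21 i) (Nat.ble 21504 i)
noncomputable def e2T18 (i : Nat) : Nat := Bool.rec (e2T16 i) (e2T17 i) (Nat.ble 20480 i)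
noncomputable def e2T19 (i : Nat) : Nat := Bool.rec (e2T15 i) (e2T18 i) (Nat.ble 18432 i)
noncomputable def e2T20 (i : Nat) : Nat := Bool.rec (e2L22 i) (e2L23 i) (Nat.ble 23552 i)
noncomputable def e2T21 (i : Nat) : Nat := Bool.rec (e2L24 i) (e2L25 i) (Nat.ble 25600 i)
noncomputable def e2T22 (i : Nat) : Nat := Bool.rec (e2T20 i) (e2T21 i) (Nat.ble 24576 i)
noncomputable def e2T23 (i : Nat) : Nat := Bool.rec (e2L26 i) (e2L27 i) (Nat.ble 27648 i)
noncomputable def e2T24 (i : Nat) : Nat := Bool.rec (e2L28 i) (e2L29 i) (Nat.ble 29696 i)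
noncomputable def e2T25 (i : Nat) : Nat := Bool.rec (e2T23 i) (e2T24 i) (Nat.ble 28672 i)
noncomputable def e2T26 (i : Nat) : Nat := Bool.rec (e2T22 i) (e2T25 i) (Nat.ble 26624 i)
noncomputable def e2T27 (i : Nat) : Nat := Bool.rec (e2T19 i) (e2T26 i) (Nat.ble 22528 i)
noncomputable def e2T28 (i : Nat) : Nat := Bool.rec (e2T13 i) (e2T27 i) (Nat.ble 15360 i)
noncomputable def e2T29 (i : Nat) : Nat := Bool.rec (e2L31 i) (e2L32 i) (Nat.ble 32768 i)
noncomputable def e2T30 (i : Nat) : Nat := Bool.rec (e2L30 i) (e2T29 i) (Nat.ble 31744 i)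
noncomputable def e2T31 (i : Nat) : Nat := Bool.rec (e2L33 i) (e2L34 i) (Nat.ble 34816 i)
noncomputable def e2T32 (i : Nat) : Nat := Bool.rec (e2L35 i) (e2L36 i) (Nat.ble 36864 i)
noncomputable def e2T33 (i : Nat) : Nat := Bool.rec (e2T31 i) (e2T32 i) (Nat.ble 35840 i)
noncomputable def e2T34 (i : Nat) : Nat := Bool.rec (e2T30 i) (e2T33 i) (Nat.ble 33792 i)
noncomputable def e2T35 (i : Nat) : Nat := Bool.rec (e2L37 i) (e2L38 i) (Nat.ble 38912 i)
noncomputable def e2T36 (i : Nat) : Nat := Bool.rec (e2L39 i) (e2L40 i) (Nat.ble 40960 i)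
noncomputable def e2T37 (i : Nat) : Nat := Bool.rec (e2T35 i) (e2T36 i) (Nat.ble 39936 i)
noncomputable def e2T38 (i : Nat) : Nat := Bool.rec (e2L41 i) (e2L42 i) (Nat.ble 43008 i)
noncomputable def e2T39 (i : Nat) : Nat := Bool.rec (e2L43 i) (e2L44 i) (Nat.ble 45056 i)
noncomputable def e2T40 (i : Nat) : Nat := Bool.rec (e2T38 i) (e2T39 i) (Nat.ble 44032 i)
noncomputable def e2T41 (i : Nat) : Nat := Bool.rec (e2T37 i) (e2T40 i) (Nat.ble 41984 i)
noncomputable def e2T42 (i : Nat) : Nat := Bool.rec (e2T34 i) (e2T41 i) (Nat.ble 37888 i)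
noncomputable def e2T43 (i : Nat) : Nat := Bool.rec (e2L46 i) (e2L47 i) (Nat.ble 48128 i)
noncomputable def e2T44 (i : Nat) : Nat := Bool.rec (e2L45 i) (e2T43 i) (Nat.ble 47104 i)
noncomputable def e2T45 (i : Nat) : Nat := Bool.rec (e2L48 i) (e2L49 i) (Nat.ble 50176 i)
noncomputable def e2T46 (i : Nat) : Nat := Bool.rec (e2L50 i) (e2L51 i) (Nat.ble 52224 i)
noncomputable def e2T47 (i : Nat) : Nat := Bool.rec (e2T45 i) (e2T46 i) (Nat.ble 51200 i)
noncomputable def e2T48 (i : Nat) : Nat := Bool.rec (e2T44 i) (e2T47 i) (Nat.ble 49152 i)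
noncomputable def e2T49 (i : Nat) : Nat := Bool.rec (e2L52 i) (e2L53 i) (Nat.ble 54272 i)
noncomputable def e2T50 (i : Nat) : Nat := Bool.rec (e2L54 i) (e2L55 i) (Nat.ble 56320 i)
noncomputable def e2T51 (i : Nat) : Nat := Bool.rec (e2T49 i) (e2T50 i) (Nat.ble 55296 i)
noncomputable def e2T52 (i : Nat) : Nat := Bool.rec (e2L56 i) (e2L57 i) (Nat.ble 58368 i)
noncomputable def e2T53 (i : Nat) : Nat := Bool.rec (e2L58 i) (e2L59 i) (Nat.ble 60416 i)
noncomputable def e2T54 (i : Nat) : Nat := Bool.rec (e2T52 i) (e2T53 i) (Nat.ble 59392 i)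
noncomputable def e2T55 (i : Nat) : Nat := Bool.rec (e2T51 i) (e2T54 i) (Nat.ble 57344 i)
noncomputable def e2T56 (i : Nat) : Nat := Bool.rec (e2T48 i) (e2T55 i) (Nat.ble 53248 i)
noncomputable def e2T57 (i : Nat) : Nat := Bool.rec (e2T42 i) (e2T56 i) (Nat.ble 46080 i)
noncomputable def e2T58 (i : Nat) : Nat := Bool.rec (e2T28 i) (e2T57 i) (Nat.ble 30720 i)
noncomputable def e2T59 (i : Nat) : Nat := Bool.rec (e2L61 i) (e2L62 i) (Nat.ble 63488 i)
noncomputable def e2T60 (i : Nat) : Nat := Bool.rec (e2L60 i) (e2T59 i) (Nat.ble 62464 i)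
noncomputable def e2T61 (i : Nat) : Nat := Bool.rec (e2L63 i) (e2L64 i) (Nat.ble 65536 i)
noncomputable def e2T62 (i : Nat) : Nat := Bool.rec (e2L65 i) (e2L66 i) (Nat.ble 67584 i)
noncomputable def e2T63 (i : Nat) : Nat := Bool.rec (e2T61 i) (e2T62 i) (Nat.ble 66560 i)
noncomputable def e2T64 (i : Nat) : Nat := Bool.rec (e2T60 i) (e2T63 i) (Nat.ble 64512 i)
noncomputable def e2T65 (i : Nat) : Nat := Bool.rec (e2L67 i) (e2L68 i) (Nat.ble 69632 i)
noncomputable def e2T66 (i : Nat) : Nat := Bool.rec (e2L69 i) (e2L70 i) (Nat.ble 71680 i)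
noncomputable def e2T67 (i : Nat) : Nat := Bool.rec (e2T65 i) (e2T66 i) (Nat.ble 70656 i)
noncomputable def e2T68 (i : Nat) : Nat := Bool.rec (e2L71 i) (e2L72 i) (Nat.ble 73728 i)
noncomputable def e2T69 (i : Nat) : Nat := Bool.rec (e2L73 i) (e2L74 i) (Nat.ble 75776 i)
noncomputable def e2T70 (i : Nat) : Nat := Bool.rec (e2T68 i) (e2T69 i) (Nat.ble 74752 i)
noncomputable def e2T71 (i : Nat) : Nat := Bool.rec (e2T67 i) (e2T70 i) (Nat.ble 72704 i)
noncomputable def e2T72 (i : Nat) : Nat := Bool.rec (e2T64 i) (e2T71 i) (Nat.ble 68608 i)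
noncomputable def e2T73 (i : Nat) : Nat := Bool.rec (e2L76 i) (e2L77 i) (Nat.ble 78848 i)
noncomputable def e2T74 (i : Nat) : Nat := Bool.rec (e2L75 i) (e2T73 i) (Nat.ble 77824 i)
noncomputable def e2T75 (i : Nat) : Nat := Bool.rec (e2L78 i) (e2L79 i) (Nat.ble 80896 i)
noncomputable def e2T76 (i : Nat) : Nat := Bool.rec (e2L80 i) (e2L81 i) (Nat.ble 82944 i)
noncomputable def e2T77 (i : Nat) : Nat := Bool.rec (e2T75 i) (e2T76 i) (Nat.ble 81920 i)
noncomputable def e2T78 (i : Nat) : Nat := Bool.rec (e2T74 i) (e2T77 i) (Nat.ble 79872 i)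
noncomputable def e2T79 (i : Nat) : Nat := Bool.rec (e2L82 i) (e2L83 i) (Nat.ble 84992 i)
noncomputable def e2T80 (i : Nat) : Nat := Bool.rec (e2L84 i) (e2L85 i) (Nat.ble 87040 i)
noncomputable def e2T81 (i : Nat) : Nat := Bool.rec (e2T79 i) (e2T80 i) (Nat.ble 86016 i)
noncomputable def e2T82 (i : Nat) : Nat := Bool.rec (e2L86 i) (e2L87 i) (Nat.ble 89088 i)
noncomputable def e2T83 (i : Nat) : Nat := Bool.rec (e2L88 i) (e2L89 i) (Nat.ble 91136 i)
noncomputable def e2T84 (i : Nat) : Nat := Bool.rec (e2T82 i) (e2T83 i) (Nat.ble 90112 i)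
noncomputable def e2T85 (i : Nat) : Nat := Bool.rec (e2T81 i) (e2T84 i) (Nat.ble 88064 i)
noncomputable def e2T86 (i : Nat) : Nat := Bool.rec (e2T78 i) (e2T85 i) (Nat.ble 83968 i)
noncomputable def e2T87 (i : Nat) : Nat := Bool.rec (e2T72 i) (e2T86 i) (Nat.ble 76800 i)
noncomputable def e2T88 (i : Nat) : Nat := Bool.rec (e2L91 i) (e2L92 i) (Nat.ble 94208 i)
noncomputable def e2T89 (i : Nat) : Nat := Bool.rec (e2L90 i) (e2T88 i) (Nat.ble 93184 i)
noncomputable def e2T90 (i : Nat) : Nat := Bool.rec (e2L93 i) (e2L94 i) (Nat.ble 96256 i)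
noncomputable def e2T91 (i : Nat) : Nat := Bool.rec (e2L95 i) (e2L96 i) (Nat.ble 98304 i)
noncomputable def e2T92 (i : Nat) : Nat := Bool.rec (e2T90 i) (e2T91 i) (Nat.ble 97280 i)
noncomputable def e2T93 (i : Nat) : Nat := Bool.rec (e2T89 i) (e2T92 i) (Nat.ble 95232 i)
noncomputable def e2T94 (i : Nat) : Nat := Bool.rec (e2L97 i) (e2L98 i) (Nat.ble 100352 i)
noncomputable def e2T95 (i : Nat) : Nat := Bool.rec (e2L99 i) (e2L100 i) (Nat.ble 102400 i)
noncomputable def e2T96 (i : Nat) : Nat := Bool.rec (e2T94 i) (e2T95 i) (Nat.ble 101376 i)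
noncomputable def e2T97 (i : Nat) : Nat := Bool.rec (e2L101 i) (e2L102 i) (Nat.ble 104448 i)
noncomputable def e2T98 (i : Nat) : Nat := Bool.rec (e2L103 i) (e2L104 i) (Nat.ble 106496 i)
noncomputable def e2T99 (i : Nat) : Nat := Bool.rec (e2T97 i) (e2T98 i) (Nat.ble 105472 i)
noncomputable def e2T100 (i : Nat) : Nat := Bool.rec (e2T96 i) (e2T99 i) (Nat.ble 103424 i)
noncomputable def e2T101 (i : Nat) : Nat := Bool.rec (e2T93 i) (e2T100 i) (Nat.ble 99328 i)
noncomputable def e2T102 (i : Nat) : Nat := Bool.rec (e2L106 i) (e2L107 i) (Nat.ble 109568 i)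
noncomputable def e2T103 (i : Nat) : Nat := Bool.rec (e2L105 i) (e2T102 i) (Nat.ble 108544 i)
noncomputable def e2T104 (i : Nat) : Nat := Bool.rec (e2L108 i) (e2L109 i) (Nat.ble 111616 i)
noncomputable def e2T105 (i : Nat) : Nat := Bool.rec (e2L110 i) (e2L111 i) (Nat.ble 113664 i)
noncomputable def e2T106 (i : Nat) : Nat := Bool.rec (e2T104 i) (e2T105 i) (Nat.ble 112640 i)
noncomputable def e2T107 (i : Nat) : Nat := Bool.rec (e2T103 i) (e2T106 i) (Nat.ble 110592 i)
noncomputable def e2T108 (i : Nat) : Nat := Bool.rec (e2L112 i) (e2L113 i) (Nat.ble 115712 i)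
noncomputable def e2T109 (i : Nat) : Nat := Bool.rec (e2L114 i) (e2L115 i) (Nat.ble 117760 i)
noncomputable def e2T110 (i : Nat) : Nat := Bool.rec (e2T108 i) (e2T109 i) (Nat.ble 116736 i)
noncomputable def e2T111 (i : Nat) : Nat := Bool.rec (e2L116 i) (e2L117 i) (Nat.ble 119808 i)
noncomputable def e2T112 (i : Nat) : Nat := Bool.rec (e2L118 i) (e2L119 i) (Nat.ble 121856 i)
noncomputable def e2T113 (i : Nat) : Nat := Bool.rec (e2T111 i) (e2T112 i) (Nat.ble 120832 i)
noncomputable def e2T114 (i : Nat) : Nat := Bool.rec (e2T110 i) (e2T113 i) (Nat.ble 118784 i)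
noncomputable def e2T115 (i : Nat) : Nat := Bool.rec (e2T107 i) (e2T114 i) (Nat.ble 114688 i)
noncomputable def e2T116 (i : Nat) : Nat := Bool.rec (e2T101 i) (e2T115 i) (Nat.ble 107520 i)
noncomputable def e2T117 (i : Nat) : Nat := Bool.rec (e2T87 i) (e2T116 i) (Nat.ble 92160 i)
noncomputable def e2T118 (i : Nat) : Nat := Bool.rec (e2T58 i) (e2T117 i) (Nat.ble 61440 i)
noncomputable def e2T119 (i : Nat) : Nat := Bool.rec (e2L121 i) (e2L122 i) (Nat.ble 124928 i)
noncomputable def e2T120 (i : Nat) : Nat := Bool.rec (e2L120 i) (e2T119 i) (Nat.ble 123904 i)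
noncomputable def e2T121 (i : Nat) : Nat := Bool.rec (e2L123 i) (e2L124 i) (Nat.ble 126976 i)
noncomputable def e2T122 (i : Nat) : Nat := Bool.rec (e2L125 i) (e2L126 i) (Nat.ble 129024 i)
noncomputable def e2T123 (i : Nat) : Nat := Bool.rec (e2T121 i) (e2T122 i) (Nat.ble 128000 i)
noncomputable def e2T124 (i : Nat) : Nat := Bool.rec (e2T120 i) (e2T123 i) (Nat.ble 125952 i)
noncomputable def e2T125 (i : Nat) : Nat := Bool.rec (e2L127 i) (e2L128 i) (Nat.ble 131072 i)
noncomputable def e2T126 (i : Nat) : Nat := Bool.rec (e2L129 i) (e2L130 i) (Nat.ble 133120 i)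
noncomputable def e2T127 (i : Nat) : Nat := Bool.rec (e2T125 i) (e2T126 i) (Nat.ble 132096 i)
noncomputable def e2T128 (i : Nat) : Nat := Bool.rec (e2L131 i) (e2L132 i) (Nat.ble 135168 i)
noncomputable def e2T129 (i : Nat) : Nat := Bool.rec (e2L133 i) (e2L134 i) (Nat.ble 137216 i)
noncomputable def e2T130 (i : Nat) : Nat := Bool.rec (e2T128 i) (e2T129 i) (Nat.ble 136192 i)
noncomputable def e2T131 (i : Nat) : Nat := Bool.rec (e2T127 i) (e2T130 i) (Nat.ble 134144 i)
noncomputable def e2T132 (i : Nat) : Nat := Bool.rec (e2T124 i) (e2T131 i) (Nat.ble 130048 i)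
noncomputable def e2T133 (i : Nat) : Nat := Bool.rec (e2L136 i) (e2L137 i) (Nat.ble 140288 i)
noncomputable def e2T134 (i : Nat) : Nat := Bool.rec (e2L135 i) (e2T133 i) (Nat.ble 139264 i)
noncomputable def e2T135 (i : Nat) : Nat := Bool.rec (e2L138 i) (e2L139 i) (Nat.ble 142336 i)
noncomputable def e2T136 (i : Nat) : Nat := Bool.rec (e2L140 i) (e2L141 i) (Nat.ble 144384 i)
noncomputable def e2T137 (i : Nat) : Nat := Bool.rec (e2T135 i) (e2T136 i) (Nat.ble 143360 i)
noncomputable def e2T138 (i : Nat) : Nat := Bool.rec (e2T134 i) (e2T137 i) (Nat.ble 141312 i)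
noncomputable def e2T139 (i : Nat) : Nat := Bool.rec (e2L142 i) (e2L143 i) (Nat.ble 146432 i)
noncomputable def e2T140 (i : Nat) : Nat := Bool.rec (e2L144 i) (e2L145 i) (Nat.ble 148480 i)
noncomputable def e2T141 (i : Nat) : Nat := Bool.rec (e2T139 i) (e2T140 i) (Nat.ble 147456 i)
noncomputable def e2T142 (i : Nat) : Nat := Bool.rec (e2L146 i) (e2L147 i) (Nat.ble 150528 i)
noncomputable def e2T143 (i : Nat) : Nat := Bool.rec (e2L148 i) (e2L149 i) (Nat.ble 152576 i)
noncomputable def e2T144 (i : Nat) : Nat := Bool.rec (e2T142 i) (e2T143 i) (Nat.ble 151552 i)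
noncomputable def e2T145 (i : Nat) : Nat := Bool.rec (e2T141 i) (e2T144 i) (Nat.ble 149504 i)
noncomputable def e2T146 (i : Nat) : Nat := Bool.rec (e2T138 i) (e2T145 i) (Nat.ble 145408 i)
noncomputable def e2T147 (i : Nat) : Nat := Bool.rec (e2T132 i) (e2T146 i) (Nat.ble 138240 i)
noncomputable def e2T148 (i : Nat) : Nat := Bool.rec (e2L151 i) (e2L152 i) (Nat.ble 155648 i)
noncomputable def e2T149 (i : Nat) : Nat := Bool.rec (e2L150 i) (e2T148 i) (Nat.ble 154624 i)
noncomputable def e2T150 (i : Nat) : Nat := Bool.rec (e2L153 i) (e2L154 i) (Nat.ble 157696 i)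
noncomputable def e2T151 (i : Nat) : Nat := Bool.rec (e2L155 i) (e2L156 i) (Nat.ble 159744 i)
noncomputable def e2T152 (i : Nat) : Nat := Bool.rec (e2T150 i) (e2T151 i) (Nat.ble 158720 i)
noncomputable def e2T153 (i : Nat) : Nat := Bool.rec (e2T149 i) (e2T152 i) (Nat.ble 156672 i)
noncomputable def e2T154 (i : Nat) : Nat := Bool.rec (e2L157 i) (e2L158 i) (Nat.ble 161792 i)
noncomputable def e2T155 (i : Nat) : Nat := Bool.rec (e2L159 i) (e2L160 i) (Nat.ble 163840 i)
noncomputable def e2T156 (i : Nat) : Nat := Bool.rec (e2T154 i) (e2T155 i) (Nat.ble 162816 i)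
noncomputable def e2T157 (i : Nat) : Nat := Bool.rec (e2L161 i) (e2L162 i) (Nat.ble 165888 i)
noncomputable def e2T158 (i : Nat) : Nat := Bool.rec (e2L163 i) (e2L164 i) (Nat.ble 167936 i)
noncomputable def e2T159 (i : Nat) : Nat := Bool.rec (e2T157 i) (e2T158 i) (Nat.ble 166912 i)
noncomputable def e2T160 (i : Nat) : Nat := Bool.rec (e2T156 i) (e2T159 i) (Nat.ble 164864 i)
noncomputable def e2T161 (i : Nat) : Nat := Bool.rec (e2T153 i) (e2T160 i) (Nat.ble 160768 i)
noncomputable def e2T162 (i : Nat) : Nat := Bool.rec (e2L166 i) (e2L167 i) (Nat.ble 171008 i)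
noncomputable def e2T163 (i : Nat) : Nat := Bool.rec (e2L165 i) (e2T162 i) (Nat.ble 169984 i)
noncomputable def e2T164 (i : Nat) : Nat := Bool.rec (e2L168 i) (e2L169 i) (Nat.ble 173056 i)
noncomputable def e2T165 (i : Nat) : Nat := Bool.rec (e2L170 i) (e2L171 i) (Nat.ble 175104 i)
noncomputable def e2T166 (i : Nat) : Nat := Bool.rec (e2T164 i) (e2T165 i) (Nat.ble 174080 i)
noncomputable def e2T167 (i : Nat) : Nat := Bool.rec (e2T163 i) (e2T166 i) (Nat.ble 172032 i)
noncomputable def e2T168 (i : Nat) : Nat := Bool.rec (e2L172 i) (e2L173 i) (Nat.ble 177152 i)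
noncomputable def e2T169 (i : Nat) : Nat := Bool.rec (e2L174 i) (e2L175 i) (Nat.ble 179200 i)
noncomputable def e2T170 (i : Nat) : Nat := Bool.rec (e2T168 i) (e2T169 i) (Nat.ble 178176 i)
noncomputable def e2T171 (i : Nat) : Nat := Bool.rec (e2L176 i) (e2L177 i) (Nat.ble 181248 i)
noncomputable def e2T172 (i : Nat) : Nat := Bool.rec (e2L178 i) (e2L179 i) (Nat.ble 183296 i)
noncomputable def e2T173 (i : Nat) : Nat := Bool.rec (e2T171 i) (e2T172 i) (Nat.ble 182272 i)
noncomputable def e2T174 (i : Nat) : Nat := Bool.rec (e2T170 i) (e2T173 i) (Nat.ble 180224 i)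
noncomputable def e2T175 (i : Nat) : Nat := Bool.rec (e2T167 i) (e2T174 i) (Nat.ble 176128 i)
noncomputable def e2T176 (i : Nat) : Nat := Bool.rec (e2T161 i) (e2T175 i) (Nat.ble 168960 i)
noncomputable def e2T177 (i : Nat) : Nat := Bool.rec (e2T147 i) (e2T176 i) (Nat.ble 153600 i)
noncomputable def e2T178 (i : Nat) : Nat := Bool.rec (e2L181 i) (e2L182 i) (Nat.ble 186368 i)
noncomputable def e2T179 (i : Nat) : Nat := Bool.rec (e2L180 i) (e2T178 i) (Nat.ble 185344 i)
noncomputable def e2T180 (i : Nat) : Nat := Bool.rec (e2L183 i) (e2L184 i) (Nat.ble 188416 i)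
noncomputable def e2T181 (i : Nat) : Nat := Bool.rec (e2L185 i) (e2L186 i) (Nat.ble 190464 i)
noncomputable def e2T182 (i : Nat) : Nat := Bool.rec (e2T180 i) (e2T181 i) (Nat.ble 189440 i)
noncomputable def e2T183 (i : Nat) : Nat := Bool.rec (e2T179 i) (e2T182 i) (Nat.ble 187392 i)
noncomputable def e2T184 (i : Nat) : Nat := Bool.rec (e2L187 i) (e2L188 i) (Nat.ble 192512 i)
noncomputable def e2T185 (i : Nat) : Nat := Bool.rec (e2L189 i) (e2L190 i) (Nat.ble 194560 i)
noncomputable def e2T186 (i : Nat) : Nat := Bool.rec (e2T184 i) (e2T185 i) (Nat.ble 193536 i)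
noncomputable def e2T187 (i : Nat) : Nat := Bool.rec (e2L191 i) (e2L192 i) (Nat.ble 196608 i)
noncomputable def e2T188 (i : Nat) : Nat := Bool.rec (e2L193 i) (e2L194 i) (Nat.ble 198656 i)
noncomputable def e2T189 (i : Nat) : Nat := Bool.rec (e2T187 i) (e2T188 i) (Nat.ble 197632 i)
noncomputable def e2T190 (i : Nat) : Nat := Bool.rec (e2T186 i) (e2T189 i) (Nat.ble 195584 i)
noncomputable def e2T191 (i : Nat) : Nat := Bool.rec (e2T183 i) (e2T190 i) (Nat.ble 191488 i)
noncomputable def e2T192 (i : Nat) : Nat := Bool.rec (e2L196 i) (e2L197 i) (Nat.ble 201728 i)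
noncomputable def e2T193 (i : Nat) : Nat := Bool.rec (e2L195 i) (e2T192 i) (Nat.ble 200704 i)
noncomputable def e2T194 (i : Nat) : Nat := Bool.rec (e2L198 i) (e2L199 i) (Nat.ble 203776 i)
noncomputable def e2T195 (i : Nat) : Nat := Bool.rec (e2L200 i) (e2L201 i) (Nat.ble 205824 i)
noncomputable def e2T196 (i : Nat) : Nat := Bool.rec (e2T194 i) (e2T195 i) (Nat.ble 204800 i)
noncomputable def e2T197 (i : Nat) : Nat := Bool.rec (e2T193 i) (e2T196 i) (Nat.ble 202752 i)
noncomputable def e2T198 (i : Nat) : Nat := Bool.rec (e2L202 i) (e2L203 i) (Nat.ble 207872 i)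
noncomputable def e2T199 (i : Nat) : Nat := Bool.rec (e2L204 i) (e2L205 i) (Nat.ble 209920 i)
noncomputable def e2T200 (i : Nat) : Nat := Bool.rec (e2T198 i) (e2T199 i) (Nat.ble 208896 i)
noncomputable def e2T201 (i : Nat) : Nat := Bool.rec (e2L206 i) (e2L207 i) (Nat.ble 211968 i)
noncomputable def e2T202 (i : Nat) : Nat := Bool.rec (e2L208 i) (e2L209 i) (Nat.ble 214016 i)
noncomputable def e2T203 (i : Nat) : Nat := Bool.rec (e2T201 i) (e2T202 i) (Nat.ble 212992 i)
noncomputable def e2T204 (i : Nat) : Nat := Bool.rec (e2T200 i) (e2T203 i) (Nat.ble 210944 i)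
noncomputable def e2T205 (i : Nat) : Nat := Bool.rec (e2T197 i) (e2T204 i) (Nat.ble 206848 i)
noncomputable def e2T206 (i : Nat) : Nat := Bool.rec (e2T191 i) (e2T205 i) (Nat.ble 199680 i)
noncomputable def e2T207 (i : Nat) : Nat := Bool.rec (e2L211 i) (e2L212 i) (Nat.ble 217088 i)
noncomputable def e2T208 (i : Nat) : Nat := Bool.rec (e2L210 i) (e2T207 i) (Nat.ble 216064 i)
noncomputable def e2T209 (i : Nat) : Nat := Bool.rec (e2L213 i) (e2L214 i) (Nat.ble 219136 i)
noncomputable def e2T210 (i : Nat) : Nat := Bool.rec (e2L215 i) (e2L216 i) (Nat.ble 221184 i)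
noncomputable def e2T211 (i : Nat) : Nat := Bool.rec (e2T209 i) (e2T210 i) (Nat.ble 220160 i)
noncomputable def e2T212 (i : Nat) : Nat := Bool.rec (e2T208 i) (e2T211 i) (Nat.ble 218112 i)
noncomputable def e2T213 (i : Nat) : Nat := Bool.rec (e2L217 i) (e2L218 i) (Nat.ble 223232 i)
noncomputable def e2T214 (i : Nat) : Nat := Bool.rec (e2L219 i) (e2L220 i) (Nat.ble 225280 i)
noncomputable def e2T215 (i : Nat) : Nat := Bool.rec (e2T213 i) (e2T214 i) (Nat.ble 224256 i)
noncomputable def e2T216 (i : Nat) : Nat := Bool.rec (e2L221 i) (e2L222 i) (Nat.ble 227328 i)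
noncomputable def e2T217 (i : Nat) : Nat := Bool.rec (e2L223 i) (e2L224 i) (Nat.ble 229376 i)
noncomputable def e2T218 (i : Nat) : Nat := Bool.rec (e2T216 i) (e2T217 i) (Nat.ble 228352 i)
noncomputable def e2T219 (i : Nat) : Nat := Bool.rec (e2T215 i) (e2T218 i) (Nat.ble 226304 i)
noncomputable def e2T220 (i : Nat) : Nat := Bool.rec (e2T212 i) (e2T219 i) (Nat.ble 222208 i)
noncomputable def e2T221 (i : Nat) : Nat := Bool.rec (e2L226 i) (e2L227 i) (Nat.ble 232448 i)
noncomputable def e2T222 (i : Nat) : Nat := Bool.rec (e2L225 i) (e2T221 i) (Nat.ble 231424 i)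
noncomputable def e2T223 (i : Nat) : Nat := Bool.rec (e2L228 i) (e2L229 i) (Nat.ble 234496 i)
noncomputable def e2T224 (i : Nat) : Nat := Bool.rec (e2L230 i) (e2L231 i) (Nat.ble 236544 i)
noncomputable def e2T225 (i : Nat) : Nat := Bool.rec (e2T223 i) (e2T224 i) (Nat.ble 235520 i)
noncomputable def e2T226 (i : Nat) : Nat := Bool.rec (e2T222 i) (e2T225 i) (Nat.ble 233472 i)
noncomputable def e2T227 (i : Nat) : Nat := Bool.rec (e2L232 i) (e2L233 i) (Nat.ble 238592 i)
noncomputable def e2T228 (i : Nat) : Nat := Bool.rec (e2L234 i) (e2L235 i) (Nat.ble 240640 i)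
noncomputable def e2T229 (i : Nat) : Nat := Bool.rec (e2T227 i) (e2T228 i) (Nat.ble 239616 i)
noncomputable def e2T230 (i : Nat) : Nat := Bool.rec (e2L236 i) (e2L237 i) (Nat.ble 242688 i)
noncomputable def e2T231 (i : Nat) : Nat := Bool.rec (e2L238 i) (e2L239 i) (Nat.ble 244736 i)
noncomputable def e2T232 (i : Nat) : Nat := Bool.rec (e2T230 i) (e2T231 i) (Nat.ble 243712 i)
noncomputable def e2T233 (i : Nat) : Nat := Bool.rec (e2T229 i) (e2T232 i) (Nat.ble 241664 i)
noncomputable def e2T234 (i : Nat) : Nat := Bool.rec (e2T226 i) (e2T233 i) (Nat.ble 237568 i)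
noncomputable def e2T235 (i : Nat) : Nat := Bool.rec (e2T220 i) (e2T234 i) (Nat.ble 230400 i)
noncomputable def e2T236 (i : Nat) : Nat := Bool.rec (e2T206 i) (e2T235 i) (Nat.ble 215040 i)
noncomputable def e2T237 (i : Nat) : Nat := Bool.rec (e2T177 i) (e2T236 i) (Nat.ble 184320 i)
noncomputable def e2T238 (i : Nat) : Nat := Bool.rec (e2T118 i) (e2T237 i) (Nat.ble 122880 i)
noncomputable def e2T239 (i : Nat) : Nat := Bool.rec (e2L241 i) (e2L242 i) (Nat.ble 247808 i)
noncomputable def e2T240 (i : Nat) : Nat := Bool.rec (e2L240 i) (e2T239 i) (Nat.ble 246784 i)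
noncomputable def e2T241 (i : Nat) : Nat := Bool.rec (e2L243 i) (e2L244 i) (Nat.ble 249856 i)
noncomputable def e2T242 (i : Nat) : Nat := Bool.rec (e2L245 i) (e2L246 i) (Nat.ble 251904 i)
noncomputable def e2T243 (i : Nat) : Nat := Bool.rec (e2T241 i) (e2T242 i) (Nat.ble 250880 i)
noncomputable def e2T244 (i : Nat) : Nat := Bool.rec (e2T240 i) (e2T243 i) (Nat.ble 248832 i)
noncomputable def e2T245 (i : Nat) : Nat := Bool.rec (e2L247 i) (e2L248 i) (Nat.ble 253952 i)
noncomputable def e2T246 (i : Nat) : Nat := Bool.rec (e2L249 i) (e2L250 i) (Nat.ble 256000 i)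
noncomputable def e2T247 (i : Nat) : Nat := Bool.rec (e2T245 i) (e2T246 i) (Nat.ble 254976 i)
noncomputable def e2T248 (i : Nat) : Nat := Bool.rec (e2L251 i) (e2L252 i) (Nat.ble 258048 i)
noncomputable def e2T249 (i : Nat) : Nat := Bool.rec (e2L253 i) (e2L254 i) (Nat.ble 260096 i)
noncomputable def e2T250 (i : Nat) : Nat := Bool.rec (e2T248 i) (e2T249 i) (Nat.ble 259072 i)
noncomputable def e2T251 (i : Nat) : Nat := Bool.rec (e2T247 i) (e2T250 i) (Nat.ble 257024 i)
noncomputable def e2T252 (i : Nat) : Nat := Bool.rec (e2T244 i) (e2T251 i) (Nat.ble 252928 i)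
noncomputable def e2T253 (i : Nat) : Nat := Bool.rec (e2L256 i) (e2L257 i) (Nat.ble 263168 i)
noncomputable def e2T254 (i : Nat) : Nat := Bool.rec (e2L255 i) (e2T253 i) (Nat.ble 262144 i)
noncomputable def e2T255 (i : Nat) : Nat := Bool.rec (e2L258 i) (e2L259 i) (Nat.ble 265216 i)
noncomputable def e2T256 (i : Nat) : Nat := Bool.rec (e2L260 i) (e2L261 i) (Nat.ble 267264 i)
noncomputable def e2T257 (i : Nat) : Nat := Bool.rec (e2T255 i) (e2T256 i) (Nat.ble 266240 i)
noncomputable def e2T258 (i : Nat) : Nat := Bool.rec (e2T254 i) (e2T257 i) (Nat.ble 264192 i)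
noncomputable def e2T259 (i : Nat) : Nat := Bool.rec (e2L262 i) (e2L263 i) (Nat.ble 269312 i)
noncomputable def e2T260 (i : Nat) : Nat := Bool.rec (e2L264 i) (e2L265 i) (Nat.ble 271360 i)
noncomputable def e2T261 (i : Nat) : Nat := Bool.rec (e2T259 i) (e2T260 i) (Nat.ble 270336 i)
noncomputable def e2T262 (i : Nat) : Nat := Bool.rec (e2L266 i) (e2L267 i) (Nat.ble 273408 i)
noncomputable def e2T263 (i : Nat) : Nat := Bool.rec (e2L268 i) (e2L269 i) (Nat.ble 275456 i)
noncomputable def e2T264 (i : Nat) : Nat := Bool.rec (e2T262 i) (e2T263 i) (Nat.ble 274432 i)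
noncomputable def e2T265 (i : Nat) : Nat := Bool.rec (e2T261 i) (e2T264 i) (Nat.ble 272384 i)
noncomputable def e2T266 (i : Nat) : Nat := Bool.rec (e2T258 i) (e2T265 i) (Nat.ble 268288 i)
noncomputable def e2T267 (i : Nat) : Nat := Bool.rec (e2T252 i) (e2T266 i) (Nat.ble 261120 i)
noncomputable def e2T268 (i : Nat) : Nat := Bool.rec (e2L271 i) (e2L272 i) (Nat.ble 278528 i)
noncomputable def e2T269 (i : Nat) : Nat := Bool.rec (e2L270 i) (e2T268 i) (Nat.ble 277504 i)
noncomputable def e2T270 (i : Nat) : Nat := Bool.rec (e2L273 i) (e2L274 i) (Nat.ble 280576 i)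
noncomputable def e2T271 (i : Nat) : Nat := Bool.rec (e2L275 i) (e2L276 i) (Nat.ble 282624 i)
noncomputable def e2T272 (i : Nat) : Nat := Bool.rec (e2T270 i) (e2T271 i) (Nat.ble 281600 i)
noncomputable def e2T273 (i : Nat) : Nat := Bool.rec (e2T269 i) (e2T272 i) (Nat.ble 279552 i)
noncomputable def e2T274 (i : Nat) : Nat := Bool.rec (e2L277 i) (e2L278 i) (Nat.ble 284672 i)
noncomputable def e2T275 (i : Nat) : Nat := Bool.rec (e2L279 i) (e2L280 i) (Nat.ble 286720 i)
noncomputable def e2T276 (i : Nat) : Nat := Bool.rec (e2T274 i) (e2T275 i) (Nat.ble 285696 i)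
noncomputable def e2T277 (i : Nat) : Nat := Bool.rec (e2L281 i) (e2L282 i) (Nat.ble 288768 i)
noncomputable def e2T278 (i : Nat) : Nat := Bool.rec (e2L283 i) (e2L284 i) (Nat.ble 290816 i)
noncomputable def e2T279 (i : Nat) : Nat := Bool.rec (e2T277 i) (e2T278 i) (Nat.ble 289792 i)
noncomputable def e2T280 (i : Nat) : Nat := Bool.rec (e2T276 i) (e2T279 i) (Nat.ble 287744 i)
noncomputable def e2T281 (i : Nat) : Nat := Bool.rec (e2T273 i) (e2T280 i) (Nat.ble 283648 i)
noncomputable def e2T282 (i : Nat) : Nat := Bool.rec (e2L286 i) (e2L287 i) (Nat.ble 293888 i)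
noncomputable def e2T283 (i : Nat) : Nat := Bool.rec (e2L285 i) (e2T282 i) (Nat.ble 292864 i)
noncomputable def e2T284 (i : Nat) : Nat := Bool.rec (e2L288 i) (e2L289 i) (Nat.ble 295936 i)
noncomputable def e2T285 (i : Nat) : Nat := Bool.rec (e2L290 i) (e2L291 i) (Nat.ble 297984 i)
noncomputable def e2T286 (i : Nat) : Nat := Bool.rec (e2T284 i) (e2T285 i) (Nat.ble 296960 i)
noncomputable def e2T287 (i : Nat) : Nat := Bool.rec (e2T283 i) (e2T286 i) (Nat.ble 294912 i)
noncomputable def e2T288 (i : Nat) : Nat := Bool.rec (e2L292 i) (e2L293 i) (Nat.ble 300032 i)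
noncomputable def e2T289 (i : Nat) : Nat := Bool.rec (e2L294 i) (e2L295 i) (Nat.ble 302080 i)
noncomputable def e2T290 (i : Nat) : Nat := Bool.rec (e2T288 i) (e2T289 i) (Nat.ble 301056 i)
noncomputable def e2T291 (i : Nat) : Nat := Bool.rec (e2L296 i) (e2L297 i) (Nat.ble 304128 i)
noncomputable def e2T292 (i : Nat) : Nat := Bool.rec (e2L298 i) (e2L299 i) (Nat.ble 306176 i)
noncomputable def e2T293 (i : Nat) : Nat := Bool.rec (e2T291 i) (e2T292 i) (Nat.ble 305152 i)
noncomputable def e2T294 (i : Nat) : Nat := Bool.rec (e2T290 i) (e2T293 i) (Nat.ble 303104 i)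
noncomputable def e2T295 (i : Nat) : Nat := Bool.rec (e2T287 i) (e2T294 i) (Nat.ble 299008 i)
noncomputable def e2T296 (i : Nat) : Nat := Bool.rec (e2T281 i) (e2T295 i) (Nat.ble 291840 i)
noncomputable def e2T297 (i : Nat) : Nat := Bool.rec (e2T267 i) (e2T296 i) (Nat.ble 276480 i)
noncomputable def e2T298 (i : Nat) : Nat := Bool.rec (e2L301 i) (e2L302 i) (Nat.ble 309248 i)
noncomputable def e2T299 (i : Nat) : Nat := Bool.rec (e2L300 i) (e2T298 i) (Nat.ble 308224 i)
noncomputable def e2T300 (i : Nat) : Nat := Bool.rec (e2L303 i) (e2L304 i) (Nat.ble 311296 i)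
noncomputable def e2T301 (i : Nat) : Nat := Bool.rec (e2L305 i) (e2L306 i) (Nat.ble 313344 i)
noncomputable def e2T302 (i : Nat) : Nat := Bool.rec (e2T300 i) (e2T301 i) (Nat.ble 312320 i)
noncomputable def e2T303 (i : Nat) : Nat := Bool.rec (e2T299 i) (e2T302 i) (Nat.ble 310272 i)
noncomputable def e2T304 (i : Nat) : Nat := Bool.rec (e2L307 i) (e2L308 i) (Nat.ble 315392 i)
noncomputable def e2T305 (i : Nat) : Nat := Bool.rec (e2L309 i) (e2L310 i) (Nat.ble 317440 i)
noncomputable def e2T306 (i : Nat) : Nat := Bool.rec (e2T304 i) (e2T305 i) (Nat.ble 316416 i)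
noncomputable def e2T307 (i : Nat) : Nat := Bool.rec (e2L311 i) (e2L312 i) (Nat.ble 319488 i)
noncomputable def e2T308 (i : Nat) : Nat := Bool.rec (e2L313 i) (e2L314 i) (Nat.ble 321536 i)
noncomputable def e2T309 (i : Nat) : Nat := Bool.rec (e2T307 i) (e2T308 i) (Nat.ble 320512 i)
noncomputable def e2T310 (i : Nat) : Nat := Bool.rec (e2T306 i) (e2T309 i) (Nat.ble 318464 i)
noncomputable def e2T311 (i : Nat) : Nat := Bool.rec (e2T303 i) (e2T310 i) (Nat.ble 314368 i)
noncomputable def e2T312 (i : Nat) : Nat := Bool.rec (e2L316 i) (e2L317 i) (Nat.ble 324608 i)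
noncomputable def e2T313 (i : Nat) : Nat := Bool.rec (e2L315 i) (e2T312 i) (Nat.ble 323584 i)
noncomputable def e2T314 (i : Nat) : Nat := Bool.rec (e2L318 i) (e2L319 i) (Nat.ble 326656 i)
noncomputable def e2T315 (i : Nat) : Nat := Bool.rec (e2L320 i) (e2L321 i) (Nat.ble 328704 i)
noncomputable def e2T316 (i : Nat) : Nat := Bool.rec (e2T314 i) (e2T315 i) (Nat.ble 327680 i)
noncomputable def e2T317 (i : Nat) : Nat := Bool.rec (e2T313 i) (e2T316 i) (Nat.ble 325632 i)
noncomputable def e2T318 (i : Nat) : Nat := Bool.rec (e2L322 i) (e2L323 i) (Nat.ble 330752 i)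
noncomputable def e2T319 (i : Nat) : Nat := Bool.rec (e2L324 i) (e2L325 i) (Nat.ble 332800 i)
noncomputable def e2T320 (i : Nat) : Nat := Bool.rec (e2T318 i) (e2T319 i) (Nat.ble 331776 i)
noncomputable def e2T321 (i : Nat) : Nat := Bool.rec (e2L326 i) (e2L327 i) (Nat.ble 334848 i)
noncomputable def e2T322 (i : Nat) : Nat := Bool.rec (e2L328 i) (e2L329 i) (Nat.ble 336896 i)
noncomputable def e2T323 (i : Nat) : Nat := Bool.rec (e2T321 i) (e2T322 i) (Nat.ble 335872 i)
noncomputable def e2T324 (i : Nat) : Nat := Bool.rec (e2T320 i) (e2T323 i) (Nat.ble 333824 i)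
noncomputable def e2T325 (i : Nat) : Nat := Bool.rec (e2T317 i) (e2T324 i) (Nat.ble 329728 i)
noncomputable def e2T326 (i : Nat) : Nat := Bool.rec (e2T311 i) (e2T325 i) (Nat.ble 322560 i)
noncomputable def e2T327 (i : Nat) : Nat := Bool.rec (e2L331 i) (e2L332 i) (Nat.ble 339968 i)
noncomputable def e2T328 (i : Nat) : Nat := Bool.rec (e2L330 i) (e2T327 i) (Nat.ble 338944 i)
noncomputable def e2T329 (i : Nat) : Nat := Bool.rec (e2L333 i) (e2L334 i) (Nat.ble 342016 i)
noncomputable def e2T330 (i : Nat) : Nat := Bool.rec (e2L335 i) (e2L336 i) (Nat.ble 344064 i)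
noncomputable def e2T331 (i : Nat) : Nat := Bool.rec (e2T329 i) (e2T330 i) (Nat.ble 343040 i)
noncomputable def e2T332 (i : Nat) : Nat := Bool.rec (e2T328 i) (e2T331 i) (Nat.ble 340992 i)
noncomputable def e2T333 (i : Nat) : Nat := Bool.rec (e2L337 i) (e2L338 i) (Nat.ble 346112 i)
noncomputable def e2T334 (i : Nat) : Nat := Bool.rec (e2L339 i) (e2L340 i) (Nat.ble 348160 i)
noncomputable def e2T335 (i : Nat) : Nat := Bool.rec (e2T333 i) (e2T334 i) (Nat.ble 347136 i)
noncomputable def e2T336 (i : Nat) : Nat := Bool.rec (e2L341 i) (e2L342 i) (Nat.ble 350208 i)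
noncomputable def e2T337 (i : Nat) : Nat := Bool.rec (e2L343 i) (e2L344 i) (Nat.ble 352256 i)
noncomputable def e2T338 (i : Nat) : Nat := Bool.rec (e2T336 i) (e2T337 i) (Nat.ble 351232 i)
noncomputable def e2T339 (i : Nat) : Nat := Bool.rec (e2T335 i) (e2T338 i) (Nat.ble 349184 i)
noncomputable def e2T340 (i : Nat) : Nat := Bool.rec (e2T332 i) (e2T339 i) (Nat.ble 345088 i)
noncomputable def e2T341 (i : Nat) : Nat := Bool.rec (e2L346 i) (e2L347 i) (Nat.ble 355328 i)
noncomputable def e2T342 (i : Nat) : Nat := Bool.rec (e2L345 i) (e2T341 i) (Nat.ble 354304 i)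
noncomputable def e2T343 (i : Nat) : Nat := Bool.rec (e2L348 i) (e2L349 i) (Nat.ble 357376 i)
noncomputable def e2T344 (i : Nat) : Nat := Bool.rec (e2L350 i) (e2L351 i) (Nat.ble 359424 i)
noncomputable def e2T345 (i : Nat) : Nat := Bool.rec (e2T343 i) (e2T344 i) (Nat.ble 358400 i)
noncomputable def e2T346 (i : Nat) : Nat := Bool.rec (e2T342 i) (e2T345 i) (Nat.ble 356352 i)
noncomputable def e2T347 (i : Nat) : Nat := Bool.rec (e2L352 i) (e2L353 i) (Nat.ble 361472 i)
noncomputable def e2T348 (i : Nat) : Nat := Bool.rec (e2L354 i) (e2L355 i) (Nat.ble 363520 i)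
noncomputable def e2T349 (i : Nat) : Nat := Bool.rec (e2T347 i) (e2T348 i) (Nat.ble 362496 i)
noncomputable def e2T350 (i : Nat) : Nat := Bool.rec (e2L356 i) (e2L357 i) (Nat.ble 365568 i)
noncomputable def e2T351 (i : Nat) : Nat := Bool.rec (e2L358 i) (e2L359 i) (Nat.ble 367616 i)
noncomputable def e2T352 (i : Nat) : Nat := Bool.rec (e2T350 i) (e2T351 i) (Nat.ble 366592 i)
noncomputable def e2T353 (i : Nat) : Nat := Bool.rec (e2T349 i) (e2T352 i) (Nat.ble 364544 i)
noncomputable def e2T354 (i : Nat) : Nat := Bool.rec (e2T346 i) (e2T353 i) (Nat.ble 360448 i)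
noncomputable def e2T355 (i : Nat) : Nat := Bool.rec (e2T340 i) (e2T354 i) (Nat.ble 353280 i)
noncomputable def e2T356 (i : Nat) : Nat := Bool.rec (e2T326 i) (e2T355 i) (Nat.ble 337920 i)
noncomputable def e2T357 (i : Nat) : Nat := Bool.rec (e2T297 i) (e2T356 i) (Nat.ble 307200 i)
noncomputable def e2T358 (i : Nat) : Nat := Bool.rec (e2L361 i) (e2L362 i) (Nat.ble 370688 i)
noncomputable def e2T359 (i : Nat) : Nat := Bool.rec (e2L360 i) (e2T358 i) (Nat.ble 369664 i)
noncomputable def e2T360 (i : Nat) : Nat := Bool.rec (e2L363 i) (e2L364 i) (Nat.ble 372736 i)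
noncomputable def e2T361 (i : Nat) : Nat := Bool.rec (e2L365 i) (e2L366 i) (Nat.ble 374784 i)
noncomputable def e2T362 (i : Nat) : Nat := Bool.rec (e2T360 i) (e2T361 i) (Nat.ble 373760 i)
noncomputable def e2T363 (i : Nat) : Nat := Bool.rec (e2T359 i) (e2T362 i) (Nat.ble 371712 i)
noncomputable def e2T364 (i : Nat) : Nat := Bool.rec (e2L367 i) (e2L368 i) (Nat.ble 376832 i)
noncomputable def e2T365 (i : Nat) : Nat := Bool.rec (e2L369 i) (e2L370 i) (Nat.ble 378880 i)
noncomputable def e2T366 (i : Nat) : Nat := Bool.rec (e2T364 i) (e2T365 i) (Nat.ble 377856 i)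
noncomputable def e2T367 (i : Nat) : Nat := Bool.rec (e2L371 i) (e2L372 i) (Nat.ble 380928 i)
noncomputable def e2T368 (i : Nat) : Nat := Bool.rec (e2L373 i) (e2L374 i) (Nat.ble 382976 i)
noncomputable def e2T369 (i : Nat) : Nat := Bool.rec (e2T367 i) (e2T368 i) (Nat.ble 381952 i)
noncomputable def e2T370 (i : Nat) : Nat := Bool.rec (e2T366 i) (e2T369 i) (Nat.ble 379904 i)
noncomputable def e2T371 (i : Nat) : Nat := Bool.rec (e2T363 i) (e2T370 i) (Nat.ble 375808 i)
noncomputable def e2T372 (i : Nat) : Nat := Bool.rec (e2L376 i) (e2L377 i) (Nat.ble 386048 i)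
noncomputable def e2T373 (i : Nat) : Nat := Bool.rec (e2L375 i) (e2T372 i) (Nat.ble 385024 i)
noncomputable def e2T374 (i : Nat) : Nat := Bool.rec (e2L378 i) (e2L379 i) (Nat.ble 388096 i)
noncomputable def e2T375 (i : Nat) : Nat := Bool.rec (e2L380 i) (e2L381 i) (Nat.ble 390144 i)
noncomputable def e2T376 (i : Nat) : Nat := Bool.rec (e2T374 i) (e2T375 i) (Nat.ble 389120 i)
noncomputable def e2T377 (i : Nat) : Nat := Bool.rec (e2T373 i) (e2T376 i) (Nat.ble 387072 i)
noncomputable def e2T378 (i : Nat) : Nat := Bool.rec (e2L382 i) (e2L383 i) (Nat.ble 392192 i)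
noncomputable def e2T379 (i : Nat) : Nat := Bool.rec (e2L384 i) (e2L385 i) (Nat.ble 394240 i)
noncomputable def e2T380 (i : Nat) : Nat := Bool.rec (e2T378 i) (e2T379 i) (Nat.ble 393216 i)
noncomputable def e2T381 (i : Nat) : Nat := Bool.rec (e2L386 i) (e2L387 i) (Nat.ble 396288 i)
noncomputable def e2T382 (i : Nat) : Nat := Bool.rec (e2L388 i) (e2L389 i) (Nat.ble 398336 i)
noncomputable def e2T383 (i : Nat) : Nat := Bool.rec (e2T381 i) (e2T382 i) (Nat.ble 397312 i)
noncomputable def e2T384 (i : Nat) : Nat := Bool.rec (e2T380 i) (e2T383 i) (Nat.ble 395264 i)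
noncomputable def e2T385 (i : Nat) : Nat := Bool.rec (e2T377 i) (e2T384 i) (Nat.ble 391168 i)
noncomputable def e2T386 (i : Nat) : Nat := Bool.rec (e2T371 i) (e2T385 i) (Nat.ble 384000 i)
noncomputable def e2T387 (i : Nat) : Nat := Bool.rec (e2L391 i) (e2L392 i) (Nat.ble 401408 i)
noncomputable def e2T388 (i : Nat) : Nat := Bool.rec (e2L390 i) (e2T387 i) (Nat.ble 400384 i)
noncomputable def e2T389 (i : Nat) : Nat := Bool.rec (e2L393 i) (e2L394 i) (Nat.ble 403456 i)
noncomputable def e2T390 (i : Nat) : Nat := Bool.rec (e2L395 i) (e2L396 i) (Nat.ble 405504 i)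
noncomputable def e2T391 (i : Nat) : Nat := Bool.rec (e2T389 i) (e2T390 i) (Nat.ble 404480 i)
noncomputable def e2T392 (i : Nat) : Nat := Bool.rec (e2T388 i) (e2T391 i) (Nat.ble 402432 i)
noncomputable def e2T393 (i : Nat) : Nat := Bool.rec (e2L397 i) (e2L398 i) (Nat.ble 407552 i)
noncomputable def e2T394 (i : Nat) : Nat := Bool.rec (e2L399 i) (e2L400 i) (Nat.ble 409600 i)
noncomputable def e2T395 (i : Nat) : Nat := Bool.rec (e2T393 i) (e2T394 i) (Nat.ble 408576 i)
noncomputable def e2T396 (i : Nat) : Nat := Bool.rec (e2L401 i) (e2L402 i) (Nat.ble 411648 i)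
noncomputable def e2T397 (i : Nat) : Nat := Bool.rec (e2L403 i) (e2L404 i) (Nat.ble 413696 i)
noncomputable def e2T398 (i : Nat) : Nat := Bool.rec (e2T396 i) (e2T397 i) (Nat.ble 412672 i)
noncomputable def e2T399 (i : Nat) : Nat := Bool.rec (e2T395 i) (e2T398 i) (Nat.ble 410624 i)
noncomputable def e2T400 (i : Nat) : Nat := Bool.rec (e2T392 i) (e2T399 i) (Nat.ble 406528 i)
noncomputable def e2T401 (i : Nat) : Nat := Bool.rec (e2L406 i) (e2L407 i) (Nat.ble 416768 i)
noncomputable def e2T402 (i : Nat) : Nat := Bool.rec (e2L405 i) (e2T401 i) (Nat.ble 415744 i)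
noncomputable def e2T403 (i : Nat) : Nat := Bool.rec (e2L408 i) (e2L409 i) (Nat.ble 418816 i)
noncomputable def e2T404 (i : Nat) : Nat := Bool.rec (e2L410 i) (e2L411 i) (Nat.ble 420864 i)
noncomputable def e2T405 (i : Nat) : Nat := Bool.rec (e2T403 i) (e2T404 i) (Nat.ble 419840 i)
noncomputable def e2T406 (i : Nat) : Nat := Bool.rec (e2T402 i) (e2T405 i) (Nat.ble 417792 i)
noncomputable def e2T407 (i : Nat) : Nat := Bool.rec (e2L412 i) (e2L413 i) (Nat.ble 422912 i)
noncomputable def e2T408 (i : Nat) : Nat := Bool.rec (e2L414 i) (e2L415 i) (Nat.ble 424960 i)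
noncomputable def e2T409 (i : Nat) : Nat := Bool.rec (e2T407 i) (e2T408 i) (Nat.ble 423936 i)
noncomputable def e2T410 (i : Nat) : Nat := Bool.rec (e2L416 i) (e2L417 i) (Nat.ble 427008 i)
noncomputable def e2T411 (i : Nat) : Nat := Bool.rec (e2L418 i) (e2L419 i) (Nat.ble 429056 i)
noncomputable def e2T412 (i : Nat) : Nat := Bool.rec (e2T410 i) (e2T411 i) (Nat.ble 428032 i)
noncomputable def e2T413 (i : Nat) : Nat := Bool.rec (e2T409 i) (e2T412 i) (Nat.ble 425984 i)
noncomputable def e2T414 (i : Nat) : Nat := Bool.rec (e2T406 i) (e2T413 i) (Nat.ble 421888 i)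
noncomputable def e2T415 (i : Nat) : Nat := Bool.rec (e2T400 i) (e2T414 i) (Nat.ble 414720 i)
noncomputable def e2T416 (i : Nat) : Nat := Bool.rec (e2T386 i) (e2T415 i) (Nat.ble 399360 i)
noncomputable def e2T417 (i : Nat) : Nat := Bool.rec (e2L421 i) (e2L422 i) (Nat.ble 432128 i)
noncomputable def e2T418 (i : Nat) : Nat := Bool.rec (e2L420 i) (e2T417 i) (Nat.ble 431104 i)
noncomputable def e2T419 (i : Nat) : Nat := Bool.rec (e2L423 i) (e2L424 i) (Nat.ble 434176 i)
noncomputable def e2T420 (i : Nat) : Nat := Bool.rec (e2L425 i) (e2L426 i) (Nat.ble 436224 i)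
noncomputable def e2T421 (i : Nat) : Nat := Bool.rec (e2T419 i) (e2T420 i) (Nat.ble 435200 i)
noncomputable def e2T422 (i : Nat) : Nat := Bool.rec (e2T418 i) (e2T421 i) (Nat.ble 433152 i)
noncomputable def e2T423 (i : Nat) : Nat := Bool.rec (e2L427 i) (e2L428 i) (Nat.ble 438272 i)
noncomputable def e2T424 (i : Nat) : Nat := Bool.rec (e2L429 i) (e2L430 i) (Nat.ble 440320 i)
noncomputable def e2T425 (i : Nat) : Nat := Bool.rec (e2T423 i) (e2T424 i) (Nat.ble 439296 i)
noncomputable def e2T426 (i : Nat) : Nat := Bool.rec (e2L431 i) (e2L432 i) (Nat.ble 442368 i)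
noncomputable def e2T427 (i : Nat) : Nat := Bool.rec (e2L433 i) (e2L434 i) (Nat.ble 444416 i)
noncomputable def e2T428 (i : Nat) : Nat := Bool.rec (e2T426 i) (e2T427 i) (Nat.ble 443392 i)
noncomputable def e2T429 (i : Nat) : Nat := Bool.rec (e2T425 i) (e2T428 i) (Nat.ble 441344 i)
noncomputable def e2T430 (i : Nat) : Nat := Bool.rec (e2T422 i) (e2T429 i) (Nat.ble 437248 i)
noncomputable def e2T431 (i : Nat) : Nat := Bool.rec (e2L436 i) (e2L437 i) (Nat.ble 447488 i)
noncomputable def e2T432 (i : Nat) : Nat := Bool.rec (e2L435 i) (e2T431 i) (Nat.ble 446464 i)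
noncomputable def e2T433 (i : Nat) : Nat := Bool.rec (e2L438 i) (e2L439 i) (Nat.ble 449536 i)
noncomputable def e2T434 (i : Nat) : Nat := Bool.rec (e2L440 i) (e2L441 i) (Nat.ble 451584 i)
noncomputable def e2T435 (i : Nat) : Nat := Bool.rec (e2T433 i) (e2T434 i) (Nat.ble 450560 i)
noncomputable def e2T436 (i : Nat) : Nat := Bool.rec (e2T432 i) (e2T435 i) (Nat.ble 448512 i)
noncomputable def e2T437 (i : Nat) : Nat := Bool.rec (e2L442 i) (e2L443 i) (Nat.ble 453632 i)
noncomputable def e2T438 (i : Nat) : Nat := Bool.rec (e2L444 i) (e2L445 i) (Nat.ble 455680 i)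
noncomputable def e2T439 (i : Nat) : Nat := Bool.rec (e2T437 i) (e2T438 i) (Nat.ble 454656 i)
noncomputable def e2T440 (i : Nat) : Nat := Bool.rec (e2L446 i) (e2L447 i) (Nat.ble 457728 i)
noncomputable def e2T441 (i : Nat) : Nat := Bool.rec (e2L448 i) (e2L449 i) (Nat.ble 459776 i)
noncomputable def e2T442 (i : Nat) : Nat := Bool.rec (e2T440 i) (e2T441 i) (Nat.ble 458752 i)
noncomputable def e2T443 (i : Nat) : Nat := Bool.rec (e2T439 i) (e2T442 i) (Nat.ble 456704 i)
noncomputable def e2T444 (i : Nat) : Nat := Bool.rec (e2T436 i) (e2T443 i) (Nat.ble 452608 i)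
noncomputable def e2T445 (i : Nat) : Nat := Bool.rec (e2T430 i) (e2T444 i) (Nat.ble 445440 i)
noncomputable def e2T446 (i : Nat) : Nat := Bool.rec (e2L451 i) (e2L452 i) (Nat.ble 462848 i)
noncomputable def e2T447 (i : Nat) : Nat := Bool.rec (e2L450 i) (e2T446 i) (Nat.ble 461824 i)
noncomputable def e2T448 (i : Nat) : Nat := Bool.rec (e2L453 i) (e2L454 i) (Nat.ble 464896 i)
noncomputable def e2T449 (i : Nat) : Nat := Bool.rec (e2L455 i) (e2L456 i) (Nat.ble 466944 i)
noncomputable def e2T450 (i : Nat) : Nat := Bool.rec (e2T448 i) (e2T449 i) (Nat.ble 465920 i)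
noncomputable def e2T451 (i : Nat) : Nat := Bool.rec (e2T447 i) (e2T450 i) (Nat.ble 463872 i)
noncomputable def e2T452 (i : Nat) : Nat := Bool.rec (e2L457 i) (e2L458 i) (Nat.ble 468992 i)
noncomputable def e2T453 (i : Nat) : Nat := Bool.rec (e2L459 i) (e2L460 i) (Nat.ble 471040 i)
noncomputable def e2T454 (i : Nat) : Nat := Bool.rec (e2T452 i) (e2T453 i) (Nat.ble 470016 i)
noncomputable def e2T455 (i : Nat) : Nat := Bool.rec (e2L461 i) (e2L462 i) (Nat.ble 473088 i)
noncomputable def e2T456 (i : Nat) : Nat := Bool.rec (e2L463 i) (e2L464 i) (Nat.ble 475136 i)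
noncomputable def e2T457 (i : Nat) : Nat := Bool.rec (e2T455 i) (e2T456 i) (Nat.ble 474112 i)
noncomputable def e2T458 (i : Nat) : Nat := Bool.rec (e2T454 i) (e2T457 i) (Nat.ble 472064 i)
noncomputable def e2T459 (i : Nat) : Nat := Bool.rec (e2T451 i) (e2T458 i) (Nat.ble 467968 i)
noncomputable def e2T460 (i : Nat) : Nat := Bool.rec (e2L466 i) (e2L467 i) (Nat.ble 478208 i)
noncomputable def e2T461 (i : Nat) : Nat := Bool.rec (e2L465 i) (e2T460 i) (Nat.ble 477184 i)
noncomputable def e2T462 (i : Nat) : Nat := Bool.rec (e2L468 i) (e2L469 i) (Nat.ble 480256 i)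
noncomputable def e2T463 (i : Nat) : Nat := Bool.rec (e2L470 i) (e2L471 i) (Nat.ble 482304 i)
noncomputable def e2T464 (i : Nat) : Nat := Bool.rec (e2T462 i) (e2T463 i) (Nat.ble 481280 i)
noncomputable def e2T465 (i : Nat) : Nat := Bool.rec (e2T461 i) (e2T464 i) (Nat.ble 479232 i)
noncomputable def e2T466 (i : Nat) : Nat := Bool.rec (e2L472 i) (e2L473 i) (Nat.ble 484352 i)
noncomputable def e2T467 (i : Nat) : Nat := Bool.rec (e2L474 i) (e2L475 i) (Nat.ble 486400 i)
noncomputable def e2T468 (i : Nat) : Nat := Bool.rec (e2T466 i) (e2T467 i) (Nat.ble 485376 i)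
noncomputable def e2T469 (i : Nat) : Nat := Bool.rec (e2L476 i) (e2L477 i) (Nat.ble 488448 i)
noncomputable def e2T470 (i : Nat) : Nat := Bool.rec (e2L478 i) (e2L479 i) (Nat.ble 490496 i)
noncomputable def e2T471 (i : Nat) : Nat := Bool.rec (e2T469 i) (e2T470 i) (Nat.ble 489472 i)
noncomputable def e2T472 (i : Nat) : Nat := Bool.rec (e2T468 i) (e2T471 i) (Nat.ble 487424 i)
noncomputable def e2T473 (i : Nat) : Nat := Bool.rec (e2T465 i) (e2T472 i) (Nat.ble 483328 i)
noncomputable def e2T474 (i : Nat) : Nat := Bool.rec (e2T459 i) (e2T473 i) (Nat.ble 476160 i)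
noncomputable def e2T475 (i : Nat) : Nat := Bool.rec (e2T445 i) (e2T474 i) (Nat.ble 460800 i)
noncomputable def e2T476 (i : Nat) : Nat := Bool.rec (e2T416 i) (e2T475 i) (Nat.ble 430080 i)
noncomputable def e2T477 (i : Nat) : Nat := Bool.rec (e2T357 i) (e2T476 i) (Nat.ble 368640 i)
noncomputable def e2T478 (i : Nat) : Nat := Bool.rec (e2T238 i) (e2T477 i) (Nat.ble 245760 i)
noncomputable def e2T479 (i : Nat) : Nat := Bool.rec (e2L481 i) (e2L482 i) (Nat.ble 493568 i)
noncomputable def e2T480 (i : Nat) : Nat := Bool.rec (e2L480 i) (e2T479 i) (Nat.ble 492544 i)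
noncomputable def e2T481 (i : Nat) : Nat := Bool.rec (e2L483 i) (e2L484 i) (Nat.ble 495616 i)
noncomputable def e2T482 (i : Nat) : Nat := Bool.rec (e2L485 i) (e2L486 i) (Nat.ble 497664 i)
noncomputable def e2T483 (i : Nat) : Nat := Bool.rec (e2T481 i) (e2T482 i) (Nat.ble 496640 i)
noncomputable def e2T484 (i : Nat) : Nat := Bool.rec (e2T480 i) (e2T483 i) (Nat.ble 494592 i)
noncomputable def e2T485 (i : Nat) : Nat := Bool.rec (e2L487 i) (e2L488 i) (Nat.ble 499712 i)
noncomputable def e2T486 (i : Nat) : Nat := Bool.rec (e2L489 i) (e2L490 i) (Nat.ble 501760 i)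
noncomputable def e2T487 (i : Nat) : Nat := Bool.rec (e2T485 i) (e2T486 i) (Nat.ble 500736 i)
noncomputable def e2T488 (i : Nat) : Nat := Bool.rec (e2L491 i) (e2L492 i) (Nat.ble 503808 i)
noncomputable def e2T489 (i : Nat) : Nat := Bool.rec (e2L493 i) (e2L494 i) (Nat.ble 505856 i)
noncomputable def e2T490 (i : Nat) : Nat := Bool.rec (e2T488 i) (e2T489 i) (Nat.ble 504832 i)
noncomputable def e2T491 (i : Nat) : Nat := Bool.rec (e2T487 i) (e2T490 i) (Nat.ble 502784 i)
noncomputable def e2T492 (i : Nat) : Nat := Bool.rec (e2T484 i) (e2T491 i) (Nat.ble 498688 i)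
noncomputable def e2T493 (i : Nat) : Nat := Bool.rec (e2L496 i) (e2L497 i) (Nat.ble 508928 i)
noncomputable def e2T494 (i : Nat) : Nat := Bool.rec (e2L495 i) (e2T493 i) (Nat.ble 507904 i)
noncomputable def e2T495 (i : Nat) : Nat := Bool.rec (e2L498 i) (e2L499 i) (Nat.ble 510976 i)
noncomputable def e2T496 (i : Nat) : Nat := Bool.rec (e2L500 i) (e2L501 i) (Nat.ble 513024 i)
noncomputable def e2T497 (i : Nat) : Nat := Bool.rec (e2T495 i) (e2T496 i) (Nat.ble 512000 i)
noncomputable def e2T498 (i : Nat) : Nat := Bool.rec (e2T494 i) (e2T497 i) (Nat.ble 509952 i)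
noncomputable def e2T499 (i : Nat) : Nat := Bool.rec (e2L502 i) (e2L503 i) (Nat.ble 515072 i)
noncomputable def e2T500 (i : Nat) : Nat := Bool.rec (e2L504 i) (e2L505 i) (Nat.ble 517120 i)
noncomputable def e2T501 (i : Nat) : Nat := Bool.rec (e2T499 i) (e2T500 i) (Nat.ble 516096 i)
noncomputable def e2T502 (i : Nat) : Nat := Bool.rec (e2L506 i) (e2L507 i) (Nat.ble 519168 i)
noncomputable def e2T503 (i : Nat) : Nat := Bool.rec (e2L508 i) (e2L509 i) (Nat.ble 521216 i)
noncomputable def e2T504 (i : Nat) : Nat := Bool.rec (e2T502 i) (e2T503 i) (Nat.ble 520192 i)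
noncomputable def e2T505 (i : Nat) : Nat := Bool.rec (e2T501 i) (e2T504 i) (Nat.ble 518144 i)
noncomputable def e2T506 (i : Nat) : Nat := Bool.rec (e2T498 i) (e2T505 i) (Nat.ble 514048 i)
noncomputable def e2T507 (i : Nat) : Nat := Bool.rec (e2T492 i) (e2T506 i) (Nat.ble 506880 i)
noncomputable def e2T508 (i : Nat) : Nat := Bool.rec (e2L511 i) (e2L512 i) (Nat.ble 524288 i)
noncomputable def e2T509 (i : Nat) : Nat := Bool.rec (e2L510 i) (e2T508 i) (Nat.ble 523264 i)
noncomputable def e2T510 (i : Nat) : Nat := Bool.rec (e2L513 i) (e2L514 i) (Nat.ble 526336 i)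
noncomputable def e2T511 (i : Nat) : Nat := Bool.rec (e2L515 i) (e2L516 i) (Nat.ble 528384 i)
noncomputable def e2T512 (i : Nat) : Nat := Bool.rec (e2T510 i) (e2T511 i) (Nat.ble 527360 i)
noncomputable def e2T513 (i : Nat) : Nat := Bool.rec (e2T509 i) (e2T512 i) (Nat.ble 525312 i)
noncomputable def e2T514 (i : Nat) : Nat := Bool.rec (e2L517 i) (e2L518 i) (Nat.ble 530432 i)
noncomputable def e2T515 (i : Nat) : Nat := Bool.rec (e2L519 i) (e2L520 i) (Nat.ble 532480 i)
noncomputable def e2T516 (i : Nat) : Nat := Bool.rec (e2T514 i) (e2T515 i) (Nat.ble 531456 i)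
noncomputable def e2T517 (i : Nat) : Nat := Bool.rec (e2L521 i) (e2L522 i) (Nat.ble 534528 i)
noncomputable def e2T518 (i : Nat) : Nat := Bool.rec (e2L523 i) (e2L524 i) (Nat.ble 536576 i)
noncomputable def e2T519 (i : Nat) : Nat := Bool.rec (e2T517 i) (e2T518 i) (Nat.ble 535552 i)
noncomputable def e2T520 (i : Nat) : Nat := Bool.rec (e2T516 i) (e2T519 i) (Nat.ble 533504 i)
noncomputable def e2T521 (i : Nat) : Nat := Bool.rec (e2T513 i) (e2T520 i) (Nat.ble 529408 i)
noncomputable def e2T522 (i : Nat) : Nat := Bool.rec (e2L526 i) (e2L527 i) (Nat.ble 539648 i)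
noncomputable def e2T523 (i : Nat) : Nat := Bool.rec (e2L525 i) (e2T522 i) (Nat.ble 538624 i)
noncomputable def e2T524 (i : Nat) : Nat := Bool.rec (e2L528 i) (e2L529 i) (Nat.ble 541696 i)
noncomputable def e2T525 (i : Nat) : Nat := Bool.rec (e2L530 i) (e2L531 i) (Nat.ble 543744 i)
noncomputable def e2T526 (i : Nat) : Nat := Bool.rec (e2T524 i) (e2T525 i) (Nat.ble 542720 i)
noncomputable def e2T527 (i : Nat) : Nat := Bool.rec (e2T523 i) (e2T526 i) (Nat.ble 540672 i)
noncomputable def e2T528 (i : Nat) : Nat := Bool.rec (e2L532 i) (e2L533 i) (Nat.ble 545792 i)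
noncomputable def e2T529 (i : Nat) : Nat := Bool.rec (e2L534 i) (e2L535 i) (Nat.ble 547840 i)
noncomputable def e2T530 (i : Nat) : Nat := Bool.rec (e2T528 i) (e2T529 i) (Nat.ble 546816 i)
noncomputable def e2T531 (i : Nat) : Nat := Bool.rec (e2L536 i) (e2L537 i) (Nat.ble 549888 i)
noncomputable def e2T532 (i : Nat) : Nat := Bool.rec (e2L538 i) (e2L539 i) (Nat.ble 551936 i)
noncomputable def e2T533 (i : Nat) : Nat := Bool.rec (e2T531 i) (e2T532 i) (Nat.ble 550912 i)
noncomputable def e2T534 (i : Nat) : Nat := Bool.rec (e2T530 i) (e2T533 i) (Nat.ble 548864 i)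
noncomputable def e2T535 (i : Nat) : Nat := Bool.rec (e2T527 i) (e2T534 i) (Nat.ble 544768 i)
noncomputable def e2T536 (i : Nat) : Nat := Bool.rec (e2T521 i) (e2T535 i) (Nat.ble 537600 i)
noncomputable def e2T537 (i : Nat) : Nat := Bool.rec (e2T507 i) (e2T536 i) (Nat.ble 522240 i)
noncomputable def e2T538 (i : Nat) : Nat := Bool.rec (e2L541 i) (e2L542 i) (Nat.ble 555008 i)
noncomputable def e2T539 (i : Nat) : Nat := Bool.rec (e2L540 i) (e2T538 i) (Nat.ble 553984 i)
noncomputable def e2T540 (i : Nat) : Nat := Bool.rec (e2L543 i) (e2L544 i) (Nat.ble 557056 i)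
noncomputable def e2T541 (i : Nat) : Nat := Bool.rec (e2L545 i) (e2L546 i) (Nat.ble 559104 i)
noncomputable def e2T542 (i : Nat) : Nat := Bool.rec (e2T540 i) (e2T541 i) (Nat.ble 558080 i)
noncomputable def e2T543 (i : Nat) : Nat := Bool.rec (e2T539 i) (e2T542 i) (Nat.ble 556032 i)
noncomputable def e2T544 (i : Nat) : Nat := Bool.rec (e2L547 i) (e2L548 i) (Nat.ble 561152 i)
noncomputable def e2T545 (i : Nat) : Nat := Bool.rec (e2L549 i) (e2L550 i) (Nat.ble 563200 i)
noncomputable def e2T546 (i : Nat) : Nat := Bool.rec (e2T544 i) (e2T545 i) (Nat.ble 562176 i)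
noncomputable def e2T547 (i : Nat) : Nat := Bool.rec (e2L551 i) (e2L552 i) (Nat.ble 565248 i)
noncomputable def e2T548 (i : Nat) : Nat := Bool.rec (e2L553 i) (e2L554 i) (Nat.ble 567296 i)
noncomputable def e2T549 (i : Nat) : Nat := Bool.rec (e2T547 i) (e2T548 i) (Nat.ble 566272 i)
noncomputable def e2T550 (i : Nat) : Nat := Bool.rec (e2T546 i) (e2T549 i) (Nat.ble 564224 i)
noncomputable def e2T551 (i : Nat) : Nat := Bool.rec (e2T543 i) (e2T550 i) (Nat.ble 560128 i)
noncomputable def e2T552 (i : Nat) : Nat := Bool.rec (e2L556 i) (e2L557 i) (Nat.ble 570368 i)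
noncomputable def e2T553 (i : Nat) : Nat := Bool.rec (e2L555 i) (e2T552 i) (Nat.ble 569344 i)
noncomputable def e2T554 (i : Nat) : Nat := Bool.rec (e2L558 i) (e2L559 i) (Nat.ble 572416 i)
noncomputable def e2T555 (i : Nat) : Nat := Bool.rec (e2L560 i) (e2L561 i) (Nat.ble 574464 i)
noncomputable def e2T556 (i : Nat) : Nat := Bool.rec (e2T554 i) (e2T555 i) (Nat.ble 573440 i)
noncomputable def e2T557 (i : Nat) : Nat := Bool.rec (e2T553 i) (e2T556 i) (Nat.ble 571392 i)
noncomputable def e2T558 (i : Nat) : Nat := Bool.rec (e2L562 i) (e2L563 i) (Nat.ble 576512 i)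
noncomputable def e2T559 (i : Nat) : Nat := Bool.rec (e2L564 i) (e2L565 i) (Nat.ble 578560 i)
noncomputable def e2T560 (i : Nat) : Nat := Bool.rec (e2T558 i) (e2T559 i) (Nat.ble 577536 i)
noncomputable def e2T561 (i : Nat) : Nat := Bool.rec (e2L566 i) (e2L567 i) (Nat.ble 580608 i)
noncomputable def e2T562 (i : Nat) : Nat := Bool.rec (e2L568 i) (e2L569 i) (Nat.ble 582656 i)
noncomputable def e2T563 (i : Nat) : Nat := Bool.rec (e2T561 i) (e2T562 i) (Nat.ble 581632 i)
noncomputable def e2T564 (i : Nat) : Nat := Bool.rec (e2T560 i) (e2T563 i) (Nat.ble 579584 i)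
noncomputable def e2T565 (i : Nat) : Nat := Bool.rec (e2T557 i) (e2T564 i) (Nat.ble 575488 i)
noncomputable def e2T566 (i : Nat) : Nat := Bool.rec (e2T551 i) (e2T565 i) (Nat.ble 568320 i)
noncomputable def e2T567 (i : Nat) : Nat := Bool.rec (e2L571 i) (e2L572 i) (Nat.ble 585728 i)
noncomputable def e2T568 (i : Nat) : Nat := Bool.rec (e2L570 i) (e2T567 i) (Nat.ble 584704 i)
noncomputable def e2T569 (i : Nat) : Nat := Bool.rec (e2L573 i) (e2L574 i) (Nat.ble 587776 i)
noncomputable def e2T570 (i : Nat) : Nat := Bool.rec (e2L575 i) (e2L576 i) (Nat.ble 589824 i)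
noncomputable def e2T571 (i : Nat) : Nat := Bool.rec (e2T569 i) (e2T570 i) (Nat.ble 588800 i)
noncomputable def e2T572 (i : Nat) : Nat := Bool.rec (e2T568 i) (e2T571 i) (Nat.ble 586752 i)
noncomputable def e2T573 (i : Nat) : Nat := Bool.rec (e2L577 i) (e2L578 i) (Nat.ble 591872 i)
noncomputable def e2T574 (i : Nat) : Nat := Bool.rec (e2L579 i) (e2L580 i) (Nat.ble 593920 i)
noncomputable def e2T575 (i : Nat) : Nat := Bool.rec (e2T573 i) (e2T574 i) (Nat.ble 592896 i)
noncomputable def e2T576 (i : Nat) : Nat := Bool.rec (e2L581 i) (e2L582 i) (Nat.ble 595968 i)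
noncomputable def e2T577 (i : Nat) : Nat := Bool.rec (e2L583 i) (e2L584 i) (Nat.ble 598016 i)
noncomputable def e2T578 (i : Nat) : Nat := Bool.rec (e2T576 i) (e2T577 i) (Nat.ble 596992 i)
noncomputable def e2T579 (i : Nat) : Nat := Bool.rec (e2T575 i) (e2T578 i) (Nat.ble 594944 i)
noncomputable def e2T580 (i : Nat) : Nat := Bool.rec (e2T572 i) (e2T579 i) (Nat.ble 590848 i)
noncomputable def e2T581 (i : Nat) : Nat := Bool.rec (e2L586 i) (e2L587 i) (Nat.ble 601088 i)
noncomputable def e2T582 (i : Nat) : Nat := Bool.rec (e2L585 i) (e2T581 i) (Nat.ble 600064 i)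
noncomputable def e2T583 (i : Nat) : Nat := Bool.rec (e2L588 i) (e2L589 i) (Nat.ble 603136 i)
noncomputable def e2T584 (i : Nat) : Nat := Bool.rec (e2L590 i) (e2L591 i) (Nat.ble 605184 i)
noncomputable def e2T585 (i : Nat) : Nat := Bool.rec (e2T583 i) (e2T584 i) (Nat.ble 604160 i)
noncomputable def e2T586 (i : Nat) : Nat := Bool.rec (e2T582 i) (e2T585 i) (Nat.ble 602112 i)
noncomputable def e2T587 (i : Nat) : Nat := Bool.rec (e2L592 i) (e2L593 i) (Nat.ble 607232 i)
noncomputable def e2T588 (i : Nat) : Nat := Bool.rec (e2L594 i) (e2L595 i) (Nat.ble 609280 i)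
noncomputable def e2T589 (i : Nat) : Nat := Bool.rec (e2T587 i) (e2T588 i) (Nat.ble 608256 i)
noncomputable def e2T590 (i : Nat) : Nat := Bool.rec (e2L596 i) (e2L597 i) (Nat.ble 611328 i)
noncomputable def e2T591 (i : Nat) : Nat := Bool.rec (e2L598 i) (e2L599 i) (Nat.ble 613376 i)
noncomputable def e2T592 (i : Nat) : Nat := Bool.rec (e2T590 i) (e2T591 i) (Nat.ble 612352 i)
noncomputable def e2T593 (i : Nat) : Nat := Bool.rec (e2T589 i) (e2T592 i) (Nat.ble 610304 i)
noncomputable def e2T594 (i : Nat) : Nat := Bool.rec (e2T586 i) (e2T593 i) (Nat.ble 606208 i)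
noncomputable def e2T595 (i : Nat) : Nat := Bool.rec (e2T580 i) (e2T594 i) (Nat.ble 599040 i)
noncomputable def e2T596 (i : Nat) : Nat := Bool.rec (e2T566 i) (e2T595 i) (Nat.ble 583680 i)
noncomputable def e2T597 (i : Nat) : Nat := Bool.rec (e2T537 i) (e2T596 i) (Nat.ble 552960 i)
noncomputable def e2T598 (i : Nat) : Nat := Bool.rec (e2L601 i) (e2L602 i) (Nat.ble 616448 i)
noncomputable def e2T599 (i : Nat) : Nat := Bool.rec (e2L600 i) (e2T598 i) (Nat.ble 615424 i)
noncomputable def e2T600 (i : Nat) : Nat := Bool.rec (e2L603 i) (e2L604 i) (Nat.ble 618496 i)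
noncomputable def e2T601 (i : Nat) : Nat := Bool.rec (e2L605 i) (e2L606 i) (Nat.ble 620544 i)
noncomputable def e2T602 (i : Nat) : Nat := Bool.rec (e2T600 i) (e2T601 i) (Nat.ble 619520 i)
noncomputable def e2T603 (i : Nat) : Nat := Bool.rec (e2T599 i) (e2T602 i) (Nat.ble 617472 i)
noncomputable def e2T604 (i : Nat) : Nat := Bool.rec (e2L607 i) (e2L608 i) (Nat.ble 622592 i)
noncomputable def e2T605 (i : Nat) : Nat := Bool.rec (e2L609 i) (e2L610 i) (Nat.ble 624640 i)
noncomputable def e2T606 (i : Nat) : Nat := Bool.rec (e2T604 i) (e2T605 i) (Nat.ble 623616 i)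
noncomputable def e2T607 (i : Nat) : Nat := Bool.rec (e2L611 i) (e2L612 i) (Nat.ble 626688 i)
noncomputable def e2T608 (i : Nat) : Nat := Bool.rec (e2L613 i) (e2L614 i) (Nat.ble 628736 i)
noncomputable def e2T609 (i : Nat) : Nat := Bool.rec (e2T607 i) (e2T608 i) (Nat.ble 627712 i)
noncomputable def e2T610 (i : Nat) : Nat := Bool.rec (e2T606 i) (e2T609 i) (Nat.ble 625664 i)
noncomputable def e2T611 (i : Nat) : Nat := Bool.rec (e2T603 i) (e2T610 i) (Nat.ble 621568 i)
noncomputable def e2T612 (i : Nat) : Nat := Bool.rec (e2L616 i) (e2L617 i) (Nat.ble 631808 i)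
noncomputable def e2T613 (i : Nat) : Nat := Bool.rec (e2L615 i) (e2T612 i) (Nat.ble 630784 i)
noncomputable def e2T614 (i : Nat) : Nat := Bool.rec (e2L618 i) (e2L619 i) (Nat.ble 633856 i)
noncomputable def e2T615 (i : Nat) : Nat := Bool.rec (e2L620 i) (e2L621 i) (Nat.ble 635904 i)
noncomputable def e2T616 (i : Nat) : Nat := Bool.rec (e2T614 i) (e2T615 i) (Nat.ble 634880 i)
noncomputable def e2T617 (i : Nat) : Nat := Bool.rec (e2T613 i) (e2T616 i) (Nat.ble 632832 i)
noncomputable def e2T618 (i : Nat) : Nat := Bool.rec (e2L622 i) (e2L623 i) (Nat.ble 637952 i)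
noncomputable def e2T619 (i : Nat) : Nat := Bool.rec (e2L624 i) (e2L625 i) (Nat.ble 640000 i)
noncomputable def e2T620 (i : Nat) : Nat := Bool.rec (e2T618 i) (e2T619 i) (Nat.ble 638976 i)
noncomputable def e2T621 (i : Nat) : Nat := Bool.rec (e2L626 i) (e2L627 i) (Nat.ble 642048 i)
noncomputable def e2T622 (i : Nat) : Nat := Bool.rec (e2L628 i) (e2L629 i) (Nat.ble 644096 i)
noncomputable def e2T623 (i : Nat) : Nat := Bool.rec (e2T621 i) (e2T622 i) (Nat.ble 643072 i)
noncomputable def e2T624 (i : Nat) : Nat := Bool.rec (e2T620 i) (e2T623 i) (Nat.ble 641024 i)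
noncomputable def e2T625 (i : Nat) : Nat := Bool.rec (e2T617 i) (e2T624 i) (Nat.ble 636928 i)
noncomputable def e2T626 (i : Nat) : Nat := Bool.rec (e2T611 i) (e2T625 i) (Nat.ble 629760 i)
noncomputable def e2T627 (i : Nat) : Nat := Bool.rec (e2L631 i) (e2L632 i) (Nat.ble 647168 i)
noncomputable def e2T628 (i : Nat) : Nat := Bool.rec (e2L630 i) (e2T627 i) (Nat.ble 646144 i)
noncomputable def e2T629 (i : Nat) : Nat := Bool.rec (e2L633 i) (e2L634 i) (Nat.ble 649216 i)
noncomputable def e2T630 (i : Nat) : Nat := Bool.rec (e2L635 i) (e2L636 i) (Nat.ble 651264 i)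
noncomputable def e2T631 (i : Nat) : Nat := Bool.rec (e2T629 i) (e2T630 i) (Nat.ble 650240 i)
noncomputable def e2T632 (i : Nat) : Nat := Bool.rec (e2T628 i) (e2T631 i) (Nat.ble 648192 i)
noncomputable def e2T633 (i : Nat) : Nat := Bool.rec (e2L637 i) (e2L638 i) (Nat.ble 653312 i)
noncomputable def e2T634 (i : Nat) : Nat := Bool.rec (e2L639 i) (e2L640 i) (Nat.ble 655360 i)
noncomputable def e2T635 (i : Nat) : Nat := Bool.rec (e2T633 i) (e2T634 i) (Nat.ble 654336 i)
noncomputable def e2T636 (i : Nat) : Nat := Bool.rec (e2L641 i) (e2L642 i) (Nat.ble 657408 i)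
noncomputable def e2T637 (i : Nat) : Nat := Bool.rec (e2L643 i) (e2L644 i) (Nat.ble 659456 i)
noncomputable def e2T638 (i : Nat) : Nat := Bool.rec (e2T636 i) (e2T637 i) (Nat.ble 658432 i)
noncomputable def e2T639 (i : Nat) : Nat := Bool.rec (e2T635 i) (e2T638 i) (Nat.ble 656384 i)
noncomputable def e2T640 (i : Nat) : Nat := Bool.rec (e2T632 i) (e2T639 i) (Nat.ble 652288 i)
noncomputable def e2T641 (i : Nat) : Nat := Bool.rec (e2L646 i) (e2L647 i) (Nat.ble 662528 i)
noncomputable def e2T642 (i : Nat) : Nat := Bool.rec (e2L645 i) (e2T641 i) (Nat.ble 661504 i)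
noncomputable def e2T643 (i : Nat) : Nat := Bool.rec (e2L648 i) (e2L649 i) (Nat.ble 664576 i)
noncomputable def e2T644 (i : Nat) : Nat := Bool.rec (e2L650 i) (e2L651 i) (Nat.ble 666624 i)
noncomputable def e2T645 (i : Nat) : Nat := Bool.rec (e2T643 i) (e2T644 i) (Nat.ble 665600 i)
noncomputable def e2T646 (i : Nat) : Nat := Bool.rec (e2T642 i) (e2T645 i) (Nat.ble 663552 i)
noncomputable def e2T647 (i : Nat) : Nat := Bool.rec (e2L652 i) (e2L653 i) (Nat.ble 668672 i)
noncomputable def e2T648 (i : Nat) : Nat := Bool.rec (e2L654 i) (e2L655 i) (Nat.ble 670720 i)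
noncomputable def e2T649 (i : Nat) : Nat := Bool.rec (e2T647 i) (e2T648 i) (Nat.ble 669696 i)
noncomputable def e2T650 (i : Nat) : Nat := Bool.rec (e2L656 i) (e2L657 i) (Nat.ble 672768 i)
noncomputable def e2T651 (i : Nat) : Nat := Bool.rec (e2L658 i) (e2L659 i) (Nat.ble 674816 i)
noncomputable def e2T652 (i : Nat) : Nat := Bool.rec (e2T650 i) (e2T651 i) (Nat.ble 673792 i)
noncomputable def e2T653 (i : Nat) : Nat := Bool.rec (e2T649 i) (e2T652 i) (Nat.ble 671744 i)
noncomputable def e2T654 (i : Nat) : Nat := Bool.rec (e2T646 i) (e2T653 i) (Nat.ble 667648 i)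
noncomputable def e2T655 (i : Nat) : Nat := Bool.rec (e2T640 i) (e2T654 i) (Nat.ble 660480 i)
noncomputable def e2T656 (i : Nat) : Nat := Bool.rec (e2T626 i) (e2T655 i) (Nat.ble 645120 i)
noncomputable def e2T657 (i : Nat) : Nat := Bool.rec (e2L661 i) (e2L662 i) (Nat.ble 677888 i)
noncomputable def e2T658 (i : Nat) : Nat := Bool.rec (e2L660 i) (e2T657 i) (Nat.ble 676864 i)
noncomputable def e2T659 (i : Nat) : Nat := Bool.rec (e2L663 i) (e2L664 i) (Nat.ble 679936 i)
noncomputable def e2T660 (i : Nat) : Nat := Bool.rec (e2L665 i) (e2L666 i) (Nat.ble 681984 i)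
noncomputable def e2T661 (i : Nat) : Nat := Bool.rec (e2T659 i) (e2T660 i) (Nat.ble 680960 i)
noncomputable def e2T662 (i : Nat) : Nat := Bool.rec (e2T658 i) (e2T661 i) (Nat.ble 678912 i)
noncomputable def e2T663 (i : Nat) : Nat := Bool.rec (e2L667 i) (e2L668 i) (Nat.ble 684032 i)
noncomputable def e2T664 (i : Nat) : Nat := Bool.rec (e2L669 i) (e2L670 i) (Nat.ble 686080 i)
noncomputable def e2T665 (i : Nat) : Nat := Bool.rec (e2T663 i) (e2T664 i) (Nat.ble 685056 i)
noncomputable def e2T666 (i : Nat) : Nat := Bool.rec (e2L671 i) (e2L672 i) (Nat.ble 688128 i)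
noncomputable def e2T667 (i : Nat) : Nat := Bool.rec (e2L673 i) (e2L674 i) (Nat.ble 690176 i)
noncomputable def e2T668 (i : Nat) : Nat := Bool.rec (e2T666 i) (e2T667 i) (Nat.ble 689152 i)
noncomputable def e2T669 (i : Nat) : Nat := Bool.rec (e2T665 i) (e2T668 i) (Nat.ble 687104 i)
noncomputable def e2T670 (i : Nat) : Nat := Bool.rec (e2T662 i) (e2T669 i) (Nat.ble 683008 i)
noncomputable def e2T671 (i : Nat) : Nat := Bool.rec (e2L676 i) (e2L677 i) (Nat.ble 693248 i)
noncomputable def e2T672 (i : Nat) : Nat := Bool.rec (e2L675 i) (e2T671 i) (Nat.ble 692224 i)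
noncomputable def e2T673 (i : Nat) : Nat := Bool.rec (e2L678 i) (e2L679 i) (Nat.ble 695296 i)
noncomputable def e2T674 (i : Nat) : Nat := Bool.rec (e2L680 i) (e2L681 i) (Nat.ble 697344 i)
noncomputable def e2T675 (i : Nat) : Nat := Bool.rec (e2T673 i) (e2T674 i) (Nat.ble 696320 i)
noncomputable def e2T676 (i : Nat) : Nat := Bool.rec (e2T672 i) (e2T675 i) (Nat.ble 694272 i)
noncomputable def e2T677 (i : Nat) : Nat := Bool.rec (e2L682 i) (e2L683 i) (Nat.ble 699392 i)
noncomputable def e2T678 (i : Nat) : Nat := Bool.rec (e2L684 i) (e2L685 i) (Nat.ble 701440 i)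
noncomputable def e2T679 (i : Nat) : Nat := Bool.rec (e2T677 i) (e2T678 i) (Nat.ble 700416 i)
noncomputable def e2T680 (i : Nat) : Nat := Bool.rec (e2L686 i) (e2L687 i) (Nat.ble 703488 i)
noncomputable def e2T681 (i : Nat) : Nat := Bool.rec (e2L688 i) (e2L689 i) (Nat.ble 705536 i)
noncomputable def e2T682 (i : Nat) : Nat := Bool.rec (e2T680 i) (e2T681 i) (Nat.ble 704512 i)
noncomputable def e2T683 (i : Nat) : Nat := Bool.rec (e2T679 i) (e2T682 i) (Nat.ble 702464 i)
noncomputable def e2T684 (i : Nat) : Nat := Bool.rec (e2T676 i) (e2T683 i) (Nat.ble 698368 i)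
noncomputable def e2T685 (i : Nat) : Nat := Bool.rec (e2T670 i) (e2T684 i) (Nat.ble 691200 i)
noncomputable def e2T686 (i : Nat) : Nat := Bool.rec (e2L691 i) (e2L692 i) (Nat.ble 708608 i)
noncomputable def e2T687 (i : Nat) : Nat := Bool.rec (e2L690 i) (e2T686 i) (Nat.ble 707584 i)
noncomputable def e2T688 (i : Nat) : Nat := Bool.rec (e2L693 i) (e2L694 i) (Nat.ble 710656 i)
noncomputable def e2T689 (i : Nat) : Nat := Bool.rec (e2L695 i) (e2L696 i) (Nat.ble 712704 i)
noncomputable def e2T690 (i : Nat) : Nat := Bool.rec (e2T688 i) (e2T689 i) (Nat.ble 711680 i)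
noncomputable def e2T691 (i : Nat) : Nat := Bool.rec (e2T687 i) (e2T690 i) (Nat.ble 709632 i)
noncomputable def e2T692 (i : Nat) : Nat := Bool.rec (e2L697 i) (e2L698 i) (Nat.ble 714752 i)
noncomputable def e2T693 (i : Nat) : Nat := Bool.rec (e2L699 i) (e2L700 i) (Nat.ble 716800 i)
noncomputable def e2T694 (i : Nat) : Nat := Bool.rec (e2T692 i) (e2T693 i) (Nat.ble 715776 i)
noncomputable def e2T695 (i : Nat) : Nat := Bool.rec (e2L701 i) (e2L702 i) (Nat.ble 718848 i)
noncomputable def e2T696 (i : Nat) : Nat := Bool.rec (e2L703 i) (e2L704 i) (Nat.ble 720896 i)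
noncomputable def e2T697 (i : Nat) : Nat := Bool.rec (e2T695 i) (e2T696 i) (Nat.ble 719872 i)
noncomputable def e2T698 (i : Nat) : Nat := Bool.rec (e2T694 i) (e2T697 i) (Nat.ble 717824 i)
noncomputable def e2T699 (i : Nat) : Nat := Bool.rec (e2T691 i) (e2T698 i) (Nat.ble 713728 i)
noncomputable def e2T700 (i : Nat) : Nat := Bool.rec (e2L706 i) (e2L707 i) (Nat.ble 723968 i)
noncomputable def e2T701 (i : Nat) : Nat := Bool.rec (e2L705 i) (e2T700 i) (Nat.ble 722944 i)
noncomputable def e2T702 (i : Nat) : Nat := Bool.rec (e2L708 i) (e2L709 i) (Nat.ble 726016 i)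
noncomputable def e2T703 (i : Nat) : Nat := Bool.rec (e2L710 i) (e2L711 i) (Nat.ble 728064 i)
noncomputable def e2T704 (i : Nat) : Nat := Bool.rec (e2T702 i) (e2T703 i) (Nat.ble 727040 i)
noncomputable def e2T705 (i : Nat) : Nat := Bool.rec (e2T701 i) (e2T704 i) (Nat.ble 724992 i)
noncomputable def e2T706 (i : Nat) : Nat := Bool.rec (e2L712 i) (e2L713 i) (Nat.ble 730112 i)
noncomputable def e2T707 (i : Nat) : Nat := Bool.rec (e2L714 i) (e2L715 i) (Nat.ble 732160 i)
noncomputable def e2T708 (i : Nat) : Nat := Bool.rec (e2T706 i) (e2T707 i) (Nat.ble 731136 i)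
noncomputable def e2T709 (i : Nat) : Nat := Bool.rec (e2L716 i) (e2L717 i) (Nat.ble 734208 i)
noncomputable def e2T710 (i : Nat) : Nat := Bool.rec (e2L718 i) (e2L719 i) (Nat.ble 736256 i)
noncomputable def e2T711 (i : Nat) : Nat := Bool.rec (e2T709 i) (e2T710 i) (Nat.ble 735232 i)
noncomputable def e2T712 (i : Nat) : Nat := Bool.rec (e2T708 i) (e2T711 i) (Nat.ble 733184 i)
noncomputable def e2T713 (i : Nat) : Nat := Bool.rec (e2T705 i) (e2T712 i) (Nat.ble 729088 i)
noncomputable def e2T714 (i : Nat) : Nat := Bool.rec (e2T699 i) (e2T713 i) (Nat.ble 721920 i)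
noncomputable def e2T715 (i : Nat) : Nat := Bool.rec (e2T685 i) (e2T714 i) (Nat.ble 706560 i)
noncomputable def e2T716 (i : Nat) : Nat := Bool.rec (e2T656 i) (e2T715 i) (Nat.ble 675840 i)
noncomputable def e2T717 (i : Nat) : Nat := Bool.rec (e2T597 i) (e2T716 i) (Nat.ble 614400 i)
noncomputable def e2T718 (i : Nat) : Nat := Bool.rec (e2L721 i) (e2L722 i) (Nat.ble 739328 i)
noncomputable def e2T719 (i : Nat) : Nat := Bool.rec (e2L720 i) (e2T718 i) (Nat.ble 738304 i)
noncomputable def e2T720 (i : Nat) : Nat := Bool.rec (e2L723 i) (e2L724 i) (Nat.ble 741376 i)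
noncomputable def e2T721 (i : Nat) : Nat := Bool.rec (e2L725 i) (e2L726 i) (Nat.ble 743424 i)
noncomputable def e2T722 (i : Nat) : Nat := Bool.rec (e2T720 i) (e2T721 i) (Nat.ble 742400 i)
noncomputable def e2T723 (i : Nat) : Nat := Bool.rec (e2T719 i) (e2T722 i) (Nat.ble 740352 i)
noncomputable def e2T724 (i : Nat) : Nat := Bool.rec (e2L727 i) (e2L728 i) (Nat.ble 745472 i)
noncomputable def e2T725 (i : Nat) : Nat := Bool.rec (e2L729 i) (e2L730 i) (Nat.ble 747520 i)
noncomputable def e2T726 (i : Nat) : Nat := Bool.rec (e2T724 i) (e2T725 i) (Nat.ble 746496 i)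
noncomputable def e2T727 (i : Nat) : Nat := Bool.rec (e2L731 i) (e2L732 i) (Nat.ble 749568 i)
noncomputable def e2T728 (i : Nat) : Nat := Bool.rec (e2L733 i) (e2L734 i) (Nat.ble 751616 i)
noncomputable def e2T729 (i : Nat) : Nat := Bool.rec (e2T727 i) (e2T728 i) (Nat.ble 750592 i)
noncomputable def e2T730 (i : Nat) : Nat := Bool.rec (e2T726 i) (e2T729 i) (Nat.ble 748544 i)
noncomputable def e2T731 (i : Nat) : Nat := Bool.rec (e2T723 i) (e2T730 i) (Nat.ble 744448 i)
noncomputable def e2T732 (i : Nat) : Nat := Bool.rec (e2L736 i) (e2L737 i) (Nat.ble 754688 i)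
noncomputable def e2T733 (i : Nat) : Nat := Bool.rec (e2L735 i) (e2T732 i) (Nat.ble 753664 i)
noncomputable def e2T734 (i : Nat) : Nat := Bool.rec (e2L738 i) (e2L739 i) (Nat.ble 756736 i)
noncomputable def e2T735 (i : Nat) : Nat := Bool.rec (e2L740 i) (e2L741 i) (Nat.ble 758784 i)
noncomputable def e2T736 (i : Nat) : Nat := Bool.rec (e2T734 i) (e2T735 i) (Nat.ble 757760 i)
noncomputable def e2T737 (i : Nat) : Nat := Bool.rec (e2T733 i) (e2T736 i) (Nat.ble 755712 i)
noncomputable def e2T738 (i : Nat) : Nat := Bool.rec (e2L742 i) (e2L743 i) (Nat.ble 760832 i)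
noncomputable def e2T739 (i : Nat) : Nat := Bool.rec (e2L744 i) (e2L745 i) (Nat.ble 762880 i)
noncomputable def e2T740 (i : Nat) : Nat := Bool.rec (e2T738 i) (e2T739 i) (Nat.ble 761856 i)
noncomputable def e2T741 (i : Nat) : Nat := Bool.rec (e2L746 i) (e2L747 i) (Nat.ble 764928 i)
noncomputable def e2T742 (i : Nat) : Nat := Bool.rec (e2L748 i) (e2L749 i) (Nat.ble 766976 i)
noncomputable def e2T743 (i : Nat) : Nat := Bool.rec (e2T741 i) (e2T742 i) (Nat.ble 765952 i)
noncomputable def e2T744 (i : Nat) : Nat := Bool.rec (e2T740 i) (e2T743 i) (Nat.ble 763904 i)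
noncomputable def e2T745 (i : Nat) : Nat := Bool.rec (e2T737 i) (e2T744 i) (Nat.ble 759808 i)
noncomputable def e2T746 (i : Nat) : Nat := Bool.rec (e2T731 i) (e2T745 i) (Nat.ble 752640 i)
noncomputable def e2T747 (i : Nat) : Nat := Bool.rec (e2L751 i) (e2L752 i) (Nat.ble 770048 i)
noncomputable def e2T748 (i : Nat) : Nat := Bool.rec (e2L750 i) (e2T747 i) (Nat.ble 769024 i)
noncomputable def e2T749 (i : Nat) : Nat := Bool.rec (e2L753 i) (e2L754 i) (Nat.ble 772096 i)
noncomputable def e2T750 (i : Nat) : Nat := Bool.rec (e2L755 i) (e2L756 i) (Nat.ble 774144 i)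
noncomputable def e2T751 (i : Nat) : Nat := Bool.rec (e2T749 i) (e2T750 i) (Nat.ble 773120 i)
noncomputable def e2T752 (i : Nat) : Nat := Bool.rec (e2T748 i) (e2T751 i) (Nat.ble 771072 i)
noncomputable def e2T753 (i : Nat) : Nat := Bool.rec (e2L757 i) (e2L758 i) (Nat.ble 776192 i)
noncomputable def e2T754 (i : Nat) : Nat := Bool.rec (e2L759 i) (e2L760 i) (Nat.ble 778240 i)
noncomputable def e2T755 (i : Nat) : Nat := Bool.rec (e2T753 i) (e2T754 i) (Nat.ble 777216 i)
noncomputable def e2T756 (i : Nat) : Nat := Bool.rec (e2L761 i) (e2L762 i) (Nat.ble 780288 i)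
noncomputable def e2T757 (i : Nat) : Nat := Bool.rec (e2L763 i) (e2L764 i) (Nat.ble 782336 i)
noncomputable def e2T758 (i : Nat) : Nat := Bool.rec (e2T756 i) (e2T757 i) (Nat.ble 781312 i)
noncomputable def e2T759 (i : Nat) : Nat := Bool.rec (e2T755 i) (e2T758 i) (Nat.ble 779264 i)
noncomputable def e2T760 (i : Nat) : Nat := Bool.rec (e2T752 i) (e2T759 i) (Nat.ble 775168 i)
noncomputable def e2T761 (i : Nat) : Nat := Bool.rec (e2L766 i) (e2L767 i) (Nat.ble 785408 i)
noncomputable def e2T762 (i : Nat) : Nat := Bool.rec (e2L765 i) (e2T761 i) (Nat.ble 784384 i)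
noncomputable def e2T763 (i : Nat) : Nat := Bool.rec (e2L768 i) (e2L769 i) (Nat.ble 787456 i)
noncomputable def e2T764 (i : Nat) : Nat := Bool.rec (e2L770 i) (e2L771 i) (Nat.ble 789504 i)
noncomputable def e2T765 (i : Nat) : Nat := Bool.rec (e2T763 i) (e2T764 i) (Nat.ble 788480 i)
noncomputable def e2T766 (i : Nat) : Nat := Bool.rec (e2T762 i) (e2T765 i) (Nat.ble 786432 i)
noncomputable def e2T767 (i : Nat) : Nat := Bool.rec (e2L772 i) (e2L773 i) (Nat.ble 791552 i)
noncomputable def e2T768 (i : Nat) : Nat := Bool.rec (e2L774 i) (e2L775 i) (Nat.ble 793600 i)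
noncomputable def e2T769 (i : Nat) : Nat := Bool.rec (e2T767 i) (e2T768 i) (Nat.ble 792576 i)
noncomputable def e2T770 (i : Nat) : Nat := Bool.rec (e2L776 i) (e2L777 i) (Nat.ble 795648 i)
noncomputable def e2T771 (i : Nat) : Nat := Bool.rec (e2L778 i) (e2L779 i) (Nat.ble 797696 i)
noncomputable def e2T772 (i : Nat) : Nat := Bool.rec (e2T770 i) (e2T771 i) (Nat.ble 796672 i)
noncomputable def e2T773 (i : Nat) : Nat := Bool.rec (e2T769 i) (e2T772 i) (Nat.ble 794624 i)
noncomputable def e2T774 (i : Nat) : Nat := Bool.rec (e2T766 i) (e2T773 i) (Nat.ble 790528 i)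
noncomputable def e2T775 (i : Nat) : Nat := Bool.rec (e2T760 i) (e2T774 i) (Nat.ble 783360 i)
noncomputable def e2T776 (i : Nat) : Nat := Bool.rec (e2T746 i) (e2T775 i) (Nat.ble 768000 i)
noncomputable def e2T777 (i : Nat) : Nat := Bool.rec (e2L781 i) (e2L782 i) (Nat.ble 800768 i)
noncomputable def e2T778 (i : Nat) : Nat := Bool.rec (e2L780 i) (e2T777 i) (Nat.ble 799744 i)
noncomputable def e2T779 (i : Nat) : Nat := Bool.rec (e2L783 i) (e2L784 i) (Nat.ble 802816 i)
noncomputable def e2T780 (i : Nat) : Nat := Bool.rec (e2L785 i) (e2L786 i) (Nat.ble 804864 i)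
noncomputable def e2T781 (i : Nat) : Nat := Bool.rec (e2T779 i) (e2T780 i) (Nat.ble 803840 i)
noncomputable def e2T782 (i : Nat) : Nat := Bool.rec (e2T778 i) (e2T781 i) (Nat.ble 801792 i)
noncomputable def e2T783 (i : Nat) : Nat := Bool.rec (e2L787 i) (e2L788 i) (Nat.ble 806912 i)
noncomputable def e2T784 (i : Nat) : Nat := Bool.rec (e2L789 i) (e2L790 i) (Nat.ble 808960 i)
noncomputable def e2T785 (i : Nat) : Nat := Bool.rec (e2T783 i) (e2T784 i) (Nat.ble 807936 i)
noncomputable def e2T786 (i : Nat) : Nat := Bool.rec (e2L791 i) (e2L792 i) (Nat.ble 811008 i)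
noncomputable def e2T787 (i : Nat) : Nat := Bool.rec (e2L793 i) (e2L794 i) (Nat.ble 813056 i)
noncomputable def e2T788 (i : Nat) : Nat := Bool.rec (e2T786 i) (e2T787 i) (Nat.ble 812032 i)
noncomputable def e2T789 (i : Nat) : Nat := Bool.rec (e2T785 i) (e2T788 i) (Nat.ble 809984 i)
noncomputable def e2T790 (i : Nat) : Nat := Bool.rec (e2T782 i) (e2T789 i) (Nat.ble 805888 i)
noncomputable def e2T791 (i : Nat) : Nat := Bool.rec (e2L796 i) (e2L797 i) (Nat.ble 816128 i)
noncomputable def e2T792 (i : Nat) : Nat := Bool.rec (e2L795 i) (e2T791 i) (Nat.ble 815104 i)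
noncomputable def e2T793 (i : Nat) : Nat := Bool.rec (e2L798 i) (e2L799 i) (Nat.ble 818176 i)
noncomputable def e2T794 (i : Nat) : Nat := Bool.rec (e2L800 i) (e2L801 i) (Nat.ble 820224 i)
noncomputable def e2T795 (i : Nat) : Nat := Bool.rec (e2T793 i) (e2T794 i) (Nat.ble 819200 i)
noncomputable def e2T796 (i : Nat) : Nat := Bool.rec (e2T792 i) (e2T795 i) (Nat.ble 817152 i)
noncomputable def e2T797 (i : Nat) : Nat := Bool.rec (e2L802 i) (e2L803 i) (Nat.ble 822272 i)
noncomputable def e2T798 (i : Nat) : Nat := Bool.rec (e2L804 i) (e2L805 i) (Nat.ble 824320 i)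
noncomputable def e2T799 (i : Nat) : Nat := Bool.rec (e2T797 i) (e2T798 i) (Nat.ble 823296 i)
noncomputable def e2T800 (i : Nat) : Nat := Bool.rec (e2L806 i) (e2L807 i) (Nat.ble 826368 i)
noncomputable def e2T801 (i : Nat) : Nat := Bool.rec (e2L808 i) (e2L809 i) (Nat.ble 828416 i)
noncomputable def e2T802 (i : Nat) : Nat := Bool.rec (e2T800 i) (e2T801 i) (Nat.ble 827392 i)
noncomputable def e2T803 (i : Nat) : Nat := Bool.rec (e2T799 i) (e2T802 i) (Nat.ble 825344 i)
noncomputable def e2T804 (i : Nat) : Nat := Bool.rec (e2T796 i) (e2T803 i) (Nat.ble 821248 i)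
noncomputable def e2T805 (i : Nat) : Nat := Bool.rec (e2T790 i) (e2T804 i) (Nat.ble 814080 i)
noncomputable def e2T806 (i : Nat) : Nat := Bool.rec (e2L811 i) (e2L812 i) (Nat.ble 831488 i)
noncomputable def e2T807 (i : Nat) : Nat := Bool.rec (e2L810 i) (e2T806 i) (Nat.ble 830464 i)
noncomputable def e2T808 (i : Nat) : Nat := Bool.rec (e2L813 i) (e2L814 i) (Nat.ble 833536 i)
noncomputable def e2T809 (i : Nat) : Nat := Bool.rec (e2L815 i) (e2L816 i) (Nat.ble 835584 i)
noncomputable def e2T810 (i : Nat) : Nat := Bool.rec (e2T808 i) (e2T809 i) (Nat.ble 834560 i)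
noncomputable def e2T811 (i : Nat) : Nat := Bool.rec (e2T807 i) (e2T810 i) (Nat.ble 832512 i)
noncomputable def e2T812 (i : Nat) : Nat := Bool.rec (e2L817 i) (e2L818 i) (Nat.ble 837632 i)
noncomputable def e2T813 (i : Nat) : Nat := Bool.rec (e2L819 i) (e2L820 i) (Nat.ble 839680 i)
noncomputable def e2T814 (i : Nat) : Nat := Bool.rec (e2T812 i) (e2T813 i) (Nat.ble 838656 i)
noncomputable def e2T815 (i : Nat) : Nat := Bool.rec (e2L821 i) (e2L822 i) (Nat.ble 841728 i)
noncomputable def e2T816 (i : Nat) : Nat := Bool.rec (e2L823 i) (e2L824 i) (Nat.ble 843776 i)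
noncomputable def e2T817 (i : Nat) : Nat := Bool.rec (e2T815 i) (e2T816 i) (Nat.ble 842752 i)
noncomputable def e2T818 (i : Nat) : Nat := Bool.rec (e2T814 i) (e2T817 i) (Nat.ble 840704 i)
noncomputable def e2T819 (i : Nat) : Nat := Bool.rec (e2T811 i) (e2T818 i) (Nat.ble 836608 i)
noncomputable def e2T820 (i : Nat) : Nat := Bool.rec (e2L826 i) (e2L827 i) (Nat.ble 846848 i)
noncomputable def e2T821 (i : Nat) : Nat := Bool.rec (e2L825 i) (e2T820 i) (Nat.ble 845824 i)
noncomputable def e2T822 (i : Nat) : Nat := Bool.rec (e2L828 i) (e2L829 i) (Nat.ble 848896 i)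
noncomputable def e2T823 (i : Nat) : Nat := Bool.rec (e2L830 i) (e2L831 i) (Nat.ble 850944 i)
noncomputable def e2T824 (i : Nat) : Nat := Bool.rec (e2T822 i) (e2T823 i) (Nat.ble 849920 i)
noncomputable def e2T825 (i : Nat) : Nat := Bool.rec (e2T821 i) (e2T824 i) (Nat.ble 847872 i)
noncomputable def e2T826 (i : Nat) : Nat := Bool.rec (e2L832 i) (e2L833 i) (Nat.ble 852992 i)
noncomputable def e2T827 (i : Nat) : Nat := Bool.rec (e2L834 i) (e2L835 i) (Nat.ble 855040 i)
noncomputable def e2T828 (i : Nat) : Nat := Bool.rec (e2T826 i) (e2T827 i) (Nat.ble 854016 i)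
noncomputable def e2T829 (i : Nat) : Nat := Bool.rec (e2L836 i) (e2L837 i) (Nat.ble 857088 i)
noncomputable def e2T830 (i : Nat) : Nat := Bool.rec (e2L838 i) (e2L839 i) (Nat.ble 859136 i)
noncomputable def e2T831 (i : Nat) : Nat := Bool.rec (e2T829 i) (e2T830 i) (Nat.ble 858112 i)
noncomputable def e2T832 (i : Nat) : Nat := Bool.rec (e2T828 i) (e2T831 i) (Nat.ble 856064 i)
noncomputable def e2T833 (i : Nat) : Nat := Bool.rec (e2T825 i) (e2T832 i) (Nat.ble 851968 i)
noncomputable def e2T834 (i : Nat) : Nat := Bool.rec (e2T819 i) (e2T833 i) (Nat.ble 844800 i)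
noncomputable def e2T835 (i : Nat) : Nat := Bool.rec (e2T805 i) (e2T834 i) (Nat.ble 829440 i)
noncomputable def e2T836 (i : Nat) : Nat := Bool.rec (e2T776 i) (e2T835 i) (Nat.ble 798720 i)
noncomputable def e2T837 (i : Nat) : Nat := Bool.rec (e2L841 i) (e2L842 i) (Nat.ble 862208 i)
noncomputable def e2T838 (i : Nat) : Nat := Bool.rec (e2L840 i) (e2T837 i) (Nat.ble 861184 i)
noncomputable def e2T839 (i : Nat) : Nat := Bool.rec (e2L843 i) (e2L844 i) (Nat.ble 864256 i)
noncomputable def e2T840 (i : Nat) : Nat := Bool.rec (e2L845 i) (e2L846 i) (Nat.ble 866304 i)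
noncomputable def e2T841 (i : Nat) : Nat := Bool.rec (e2T839 i) (e2T840 i) (Nat.ble 865280 i)
noncomputable def e2T842 (i : Nat) : Nat := Bool.rec (e2T838 i) (e2T841 i) (Nat.ble 863232 i)
noncomputable def e2T843 (i : Nat) : Nat := Bool.rec (e2L847 i) (e2L848 i) (Nat.ble 868352 i)
noncomputable def e2T844 (i : Nat) : Nat := Bool.rec (e2L849 i) (e2L850 i) (Nat.ble 870400 i)
noncomputable def e2T845 (i : Nat) : Nat := Bool.rec (e2T843 i) (e2T844 i) (Nat.ble 869376 i)
noncomputable def e2T846 (i : Nat) : Nat := Bool.rec (e2L851 i) (e2L852 i) (Nat.ble 872448 i)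
noncomputable def e2T847 (i : Nat) : Nat := Bool.rec (e2L853 i) (e2L854 i) (Nat.ble 874496 i)
noncomputable def e2T848 (i : Nat) : Nat := Bool.rec (e2T846 i) (e2T847 i) (Nat.ble 873472 i)
noncomputable def e2T849 (i : Nat) : Nat := Bool.rec (e2T845 i) (e2T848 i) (Nat.ble 871424 i)
noncomputable def e2T850 (i : Nat) : Nat := Bool.rec (e2T842 i) (e2T849 i) (Nat.ble 867328 i)
noncomputable def e2T851 (i : Nat) : Nat := Bool.rec (e2L856 i) (e2L857 i) (Nat.ble 877568 i)
noncomputable def e2T852 (i : Nat) : Nat := Bool.rec (e2L855 i) (e2T851 i) (Nat.ble 876544 i)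
noncomputable def e2T853 (i : Nat) : Nat := Bool.rec (e2L858 i) (e2L859 i) (Nat.ble 879616 i)
noncomputable def e2T854 (i : Nat) : Nat := Bool.rec (e2L860 i) (e2L861 i) (Nat.ble 881664 i)
noncomputable def e2T855 (i : Nat) : Nat := Bool.rec (e2T853 i) (e2T854 i) (Nat.ble 880640 i)
noncomputable def e2T856 (i : Nat) : Nat := Bool.rec (e2T852 i) (e2T855 i) (Nat.ble 878592 i)
noncomputable def e2T857 (i : Nat) : Nat := Bool.rec (e2L862 i) (e2L863 i) (Nat.ble 883712 i)
noncomputable def e2T858 (i : Nat) : Nat := Bool.rec (e2L864 i) (e2L865 i) (Nat.ble 885760 i)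
noncomputable def e2T859 (i : Nat) : Nat := Bool.rec (e2T857 i) (e2T858 i) (Nat.ble 884736 i)
noncomputable def e2T860 (i : Nat) : Nat := Bool.rec (e2L866 i) (e2L867 i) (Nat.ble 887808 i)
noncomputable def e2T861 (i : Nat) : Nat := Bool.rec (e2L868 i) (e2L869 i) (Nat.ble 889856 i)
noncomputable def e2T862 (i : Nat) : Nat := Bool.rec (e2T860 i) (e2T861 i) (Nat.ble 888832 i)
noncomputable def e2T863 (i : Nat) : Nat := Bool.rec (e2T859 i) (e2T862 i) (Nat.ble 886784 i)
noncomputable def e2T864 (i : Nat) : Nat := Bool.rec (e2T856 i) (e2T863 i) (Nat.ble 882688 i)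
noncomputable def e2T865 (i : Nat) : Nat := Bool.rec (e2T850 i) (e2T864 i) (Nat.ble 875520 i)
noncomputable def e2T866 (i : Nat) : Nat := Bool.rec (e2L871 i) (e2L872 i) (Nat.ble 892928 i)
noncomputable def e2T867 (i : Nat) : Nat := Bool.rec (e2L870 i) (e2T866 i) (Nat.ble 891904 i)
noncomputable def e2T868 (i : Nat) : Nat := Bool.rec (e2L873 i) (e2L874 i) (Nat.ble 894976 i)
noncomputable def e2T869 (i : Nat) : Nat := Bool.rec (e2L875 i) (e2L876 i) (Nat.ble 897024 i)
noncomputable def e2T870 (i : Nat) : Nat := Bool.rec (e2T868 i) (e2T869 i) (Nat.ble 896000 i)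
noncomputable def e2T871 (i : Nat) : Nat := Bool.rec (e2T867 i) (e2T870 i) (Nat.ble 893952 i)
noncomputable def e2T872 (i : Nat) : Nat := Bool.rec (e2L877 i) (e2L878 i) (Nat.ble 899072 i)
noncomputable def e2T873 (i : Nat) : Nat := Bool.rec (e2L879 i) (e2L880 i) (Nat.ble 901120 i)
noncomputable def e2T874 (i : Nat) : Nat := Bool.rec (e2T872 i) (e2T873 i) (Nat.ble 900096 i)
noncomputable def e2T875 (i : Nat) : Nat := Bool.rec (e2L881 i) (e2L882 i) (Nat.ble 903168 i)
noncomputable def e2T876 (i : Nat) : Nat := Bool.rec (e2L883 i) (e2L884 i) (Nat.ble 905216 i)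
noncomputable def e2T877 (i : Nat) : Nat := Bool.rec (e2T875 i) (e2T876 i) (Nat.ble 904192 i)
noncomputable def e2T878 (i : Nat) : Nat := Bool.rec (e2T874 i) (e2T877 i) (Nat.ble 902144 i)
noncomputable def e2T879 (i : Nat) : Nat := Bool.rec (e2T871 i) (e2T878 i) (Nat.ble 898048 i)
noncomputable def e2T880 (i : Nat) : Nat := Bool.rec (e2L886 i) (e2L887 i) (Nat.ble 908288 i)
noncomputable def e2T881 (i : Nat) : Nat := Bool.rec (e2L885 i) (e2T880 i) (Nat.ble 907264 i)
noncomputable def e2T882 (i : Nat) : Nat := Bool.rec (e2L888 i) (e2L889 i) (Nat.ble 910336 i)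
noncomputable def e2T883 (i : Nat) : Nat := Bool.rec (e2L890 i) (e2L891 i) (Nat.ble 912384 i)
noncomputable def e2T884 (i : Nat) : Nat := Bool.rec (e2T882 i) (e2T883 i) (Nat.ble 911360 i)
noncomputable def e2T885 (i : Nat) : Nat := Bool.rec (e2T881 i) (e2T884 i) (Nat.ble 909312 i)
noncomputable def e2T886 (i : Nat) : Nat := Bool.rec (e2L892 i) (e2L893 i) (Nat.ble 914432 i)
noncomputable def e2T887 (i : Nat) : Nat := Bool.rec (e2L894 i) (e2L895 i) (Nat.ble 916480 i)
noncomputable def e2T888 (i : Nat) : Nat := Bool.rec (e2T886 i) (e2T887 i) (Nat.ble 915456 i)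
noncomputable def e2T889 (i : Nat) : Nat := Bool.rec (e2L896 i) (e2L897 i) (Nat.ble 918528 i)
noncomputable def e2T890 (i : Nat) : Nat := Bool.rec (e2L898 i) (e2L899 i) (Nat.ble 920576 i)
noncomputable def e2T891 (i : Nat) : Nat := Bool.rec (e2T889 i) (e2T890 i) (Nat.ble 919552 i)
noncomputable def e2T892 (i : Nat) : Nat := Bool.rec (e2T888 i) (e2T891 i) (Nat.ble 917504 i)
noncomputable def e2T893 (i : Nat) : Nat := Bool.rec (e2T885 i) (e2T892 i) (Nat.ble 913408 i)
noncomputable def e2T894 (i : Nat) : Nat := Bool.rec (e2T879 i) (e2T893 i) (Nat.ble 906240 i)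
noncomputable def e2T895 (i : Nat) : Nat := Bool.rec (e2T865 i) (e2T894 i) (Nat.ble 890880 i)
noncomputable def e2T896 (i : Nat) : Nat := Bool.rec (e2L901 i) (e2L902 i) (Nat.ble 923648 i)
noncomputable def e2T897 (i : Nat) : Nat := Bool.rec (e2L900 i) (e2T896 i) (Nat.ble 922624 i)
noncomputable def e2T898 (i : Nat) : Nat := Bool.rec (e2L903 i) (e2L904 i) (Nat.ble 925696 i)
noncomputable def e2T899 (i : Nat) : Nat := Bool.rec (e2L905 i) (e2L906 i) (Nat.ble 927744 i)
noncomputable def e2T900 (i : Nat) : Nat := Bool.rec (e2T898 i) (e2T899 i) (Nat.ble 926720 i)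
noncomputable def e2T901 (i : Nat) : Nat := Bool.rec (e2T897 i) (e2T900 i) (Nat.ble 924672 i)
noncomputable def e2T902 (i : Nat) : Nat := Bool.rec (e2L907 i) (e2L908 i) (Nat.ble 929792 i)
noncomputable def e2T903 (i : Nat) : Nat := Bool.rec (e2L909 i) (e2L910 i) (Nat.ble 931840 i)
noncomputable def e2T904 (i : Nat) : Nat := Bool.rec (e2T902 i) (e2T903 i) (Nat.ble 930816 i)
noncomputable def e2T905 (i : Nat) : Nat := Bool.rec (e2L911 i) (e2L912 i) (Nat.ble 933888 i)
noncomputable def e2T906 (i : Nat) : Nat := Bool.rec (e2L913 i) (e2L914 i) (Nat.ble 935936 i)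
noncomputable def e2T907 (i : Nat) : Nat := Bool.rec (e2T905 i) (e2T906 i) (Nat.ble 934912 i)
noncomputable def e2T908 (i : Nat) : Nat := Bool.rec (e2T904 i) (e2T907 i) (Nat.ble 932864 i)
noncomputable def e2T909 (i : Nat) : Nat := Bool.rec (e2T901 i) (e2T908 i) (Nat.ble 928768 i)
noncomputable def e2T910 (i : Nat) : Nat := Bool.rec (e2L916 i) (e2L917 i) (Nat.ble 939008 i)
noncomputable def e2T911 (i : Nat) : Nat := Bool.rec (e2L915 i) (e2T910 i) (Nat.ble 937984 i)
noncomputable def e2T912 (i : Nat) : Nat := Bool.rec (e2L918 i) (e2L919 i) (Nat.ble 941056 i)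
noncomputable def e2T913 (i : Nat) : Nat := Bool.rec (e2L920 i) (e2L921 i) (Nat.ble 943104 i)
noncomputable def e2T914 (i : Nat) : Nat := Bool.rec (e2T912 i) (e2T913 i) (Nat.ble 942080 i)
noncomputable def e2T915 (i : Nat) : Nat := Bool.rec (e2T911 i) (e2T914 i) (Nat.ble 940032 i)
noncomputable def e2T916 (i : Nat) : Nat := Bool.rec (e2L922 i) (e2L923 i) (Nat.ble 945152 i)
noncomputable def e2T917 (i : Nat) : Nat := Bool.rec (e2L924 i) (e2L925 i) (Nat.ble 947200 i)
noncomputable def e2T918 (i : Nat) : Nat := Bool.rec (e2T916 i) (e2T917 i) (Nat.ble 946176 i)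
noncomputable def e2T919 (i : Nat) : Nat := Bool.rec (e2L926 i) (e2L927 i) (Nat.ble 949248 i)
noncomputable def e2T920 (i : Nat) : Nat := Bool.rec (e2L928 i) (e2L929 i) (Nat.ble 951296 i)
noncomputable def e2T921 (i : Nat) : Nat := Bool.rec (e2T919 i) (e2T920 i) (Nat.ble 950272 i)
noncomputable def e2T922 (i : Nat) : Nat := Bool.rec (e2T918 i) (e2T921 i) (Nat.ble 948224 i)
noncomputable def e2T923 (i : Nat) : Nat := Bool.rec (e2T915 i) (e2T922 i) (Nat.ble 944128 i)
noncomputable def e2T924 (i : Nat) : Nat := Bool.rec (e2T909 i) (e2T923 i) (Nat.ble 936960 i)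
noncomputable def e2T925 (i : Nat) : Nat := Bool.rec (e2L931 i) (e2L932 i) (Nat.ble 954368 i)
noncomputable def e2T926 (i : Nat) : Nat := Bool.rec (e2L930 i) (e2T925 i) (Nat.ble 953344 i)
noncomputable def e2T927 (i : Nat) : Nat := Bool.rec (e2L933 i) (e2L934 i) (Nat.ble 956416 i)
noncomputable def e2T928 (i : Nat) : Nat := Bool.rec (e2L935 i) (e2L936 i) (Nat.ble 958464 i)
noncomputable def e2T929 (i : Nat) : Nat := Bool.rec (e2T927 i) (e2T928 i) (Nat.ble 957440 i)
noncomputable def e2T930 (i : Nat) : Nat := Bool.rec (e2T926 i) (e2T929 i) (Nat.ble 955392 i)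
noncomputable def e2T931 (i : Nat) : Nat := Bool.rec (e2L937 i) (e2L938 i) (Nat.ble 960512 i)
noncomputable def e2T932 (i : Nat) : Nat := Bool.rec (e2L939 i) (e2L940 i) (Nat.ble 962560 i)
noncomputable def e2T933 (i : Nat) : Nat := Bool.rec (e2T931 i) (e2T932 i) (Nat.ble 961536 i)
noncomputable def e2T934 (i : Nat) : Nat := Bool.rec (e2L941 i) (e2L942 i) (Nat.ble 964608 i)
noncomputable def e2T935 (i : Nat) : Nat := Bool.rec (e2L943 i) (e2L944 i) (Nat.ble 966656 i)
noncomputable def e2T936 (i : Nat) : Nat := Bool.rec (e2T934 i) (e2T935 i) (Nat.ble 965632 i)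
noncomputable def e2T937 (i : Nat) : Nat := Bool.rec (e2T933 i) (e2T936 i) (Nat.ble 963584 i)
noncomputable def e2T938 (i : Nat) : Nat := Bool.rec (e2T930 i) (e2T937 i) (Nat.ble 959488 i)
noncomputable def e2T939 (i : Nat) : Nat := Bool.rec (e2L946 i) (e2L947 i) (Nat.ble 969728 i)
noncomputable def e2T940 (i : Nat) : Nat := Bool.rec (e2L945 i) (e2T939 i) (Nat.ble 968704 i)
noncomputable def e2T941 (i : Nat) : Nat := Bool.rec (e2L948 i) (e2L949 i) (Nat.ble 971776 i)
noncomputable def e2T942 (i : Nat) : Nat := Bool.rec (e2L950 i) (e2L951 i) (Nat.ble 973824 i)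
noncomputable def e2T943 (i : Nat) : Nat := Bool.rec (e2T941 i) (e2T942 i) (Nat.ble 972800 i)
noncomputable def e2T944 (i : Nat) : Nat := Bool.rec (e2T940 i) (e2T943 i) (Nat.ble 970752 i)
noncomputable def e2T945 (i : Nat) : Nat := Bool.rec (e2L952 i) (e2L953 i) (Nat.ble 975872 i)
noncomputable def e2T946 (i : Nat) : Nat := Bool.rec (e2L954 i) (e2L955 i) (Nat.ble 977920 i)
noncomputable def e2T947 (i : Nat) : Nat := Bool.rec (e2T945 i) (e2T946 i) (Nat.ble 976896 i)
noncomputable def e2T948 (i : Nat) : Nat := Bool.rec (e2L956 i) (e2L957 i) (Nat.ble 979968 i)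
noncomputable def e2T949 (i : Nat) : Nat := Bool.rec (e2L958 i) (e2L959 i) (Nat.ble 982016 i)
noncomputable def e2T950 (i : Nat) : Nat := Bool.rec (e2T948 i) (e2T949 i) (Nat.ble 980992 i)
noncomputable def e2T951 (i : Nat) : Nat := Bool.rec (e2T947 i) (e2T950 i) (Nat.ble 978944 i)
noncomputable def e2T952 (i : Nat) : Nat := Bool.rec (e2T944 i) (e2T951 i) (Nat.ble 974848 i)
noncomputable def e2T953 (i : Nat) : Nat := Bool.rec (e2T938 i) (e2T952 i) (Nat.ble 967680 i)
noncomputable def e2T954 (i : Nat) : Nat := Bool.rec (e2T924 i) (e2T953 i) (Nat.ble 952320 i)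
noncomputable def e2T955 (i : Nat) : Nat := Bool.rec (e2T895 i) (e2T954 i) (Nat.ble 921600 i)
noncomputable def e2T956 (i : Nat) : Nat := Bool.rec (e2T836 i) (e2T955 i) (Nat.ble 860160 i)
noncomputable def e2T957 (i : Nat) : Nat := Bool.rec (e2T717 i) (e2T956 i) (Nat.ble 737280 i)
noncomputable def e2T958 (i : Nat) : Nat := Bool.rec (e2T478 i) (e2T957 i) (Nat.ble 491520 i)
/-- the entry of an unknown -/
noncomputable def ent2 (i : Nat) : Nat := e2T958 i

end Cfsg.Agent.Lib.Helper4.ONM
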