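import Cfsg.Agent.Lib.Helper4.ONM.UD
import Cfsg.Agent.Lib.Helper4.ONM.U2.Ent
set_option autoImplicit false

/-! # The sparse certificate of the O'Nan group for the prime 2: the relations (the first eight normalise the lifts of the letters), the data, the certificate -/

namespace Cfsg.Agent.Lib.Helper4.ONM

open Cfsg.Agent.Lib.Helper1.StemSA Cfsg.Agent.Lib.Helper4.Sparse

/-- the relations: the relators as words of letters -/
def rels2 : List (List ℕ × List ℕ) :=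
  [([2, 3, 2, 3, 2, 3], []),
  ([3, 4, 3, 4, 3, 4], []),
  ([5, 6, 5, 6, 5, 6], []),
  ([6, 7, 6, 7, 6, 7], []),
  ([3, 4, 5, 0, 3, 4, 5, 0, 3, 4, 5, 0, 3, 4, 5, 0, 3, 4, 5, 0], []),
  ([0, 3, 4, 0, 4, 3, 0, 3, 4, 0, 4], []),
  ([0, 6, 5, 0, 5, 6, 0, 6, 5, 0, 5], []),
  ([0, 1], []),
  ([2, 2], []),
  ([3, 3], []),
  ([4, 4], []),
  ([5, 5], []),
  ([6, 6], []),
  ([7, 7], []),
  ([2, 4, 2, 4], []),
  ([2, 5, 2, 5], []),
  ([2, 6, 2, 6], []),
  ([2, 7, 2, 7], []),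
  ([3, 5, 3, 5], []),
  ([3, 6, 3, 6], []),
  ([3, 7, 3, 7], []),
  ([4, 5, 4, 5, 4, 5, 4, 5, 4, 5, 4, 5, 4, 5, 4, 5], []),
  ([4, 6, 4, 6], []),
  ([4, 7, 4, 7], []),
  ([5, 7, 5, 7], []),
  ([2, 7, 1, 1], []),
  ([2, 7, 5, 4, 5, 4, 5, 4, 5, 4], []),
  ([4, 1, 5, 1, 5, 4, 5, 0, 5, 0], []),
  ([5, 1, 4, 1, 4, 5, 4, 0, 4, 0], [])]

/-- the data of the labelled action -/
noncomputable def D2 : SAData := DON rels2

/-- the certificate -/
noncomputable def C2 : SCert :=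
  { q := 4, T := 8, W := 7, c := 3, eW := 23, rW := 8, ent := ent2,
    gs := fun t => List.getD [245520, 122760, 613800, 245521, 491044, 245526, 245532, 491336] t 0, nn := 8 }

end Cfsg.Agent.Lib.Helper4.ONM
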