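import Cfsg.Agent.Lib.Helper4.ONM.U2.Cert
set_option autoImplicit false
set_option maxRecDepth 1000000
set_option Elab.async false
namespace Cfsg.Agent.Lib.Helper4.ONM
open Cfsg.Agent.Lib.Helper4.Sparse
theorem c2_k_12 : chkURange D2 C2 49152 4096 = true := by decide +kernel
theorem c2_k_13 : chkURange D2 C2 53248 4096 = true := by decide +kernel
theorem c2_k_14 : chkURange D2 C2 57344 4096 = true := by decide +kernel
theorem c2_k_15 : chkURange D2 C2 61440 4096 = true := by decide +kernel
theorem c2_k_16 : chkURange D2 C2 65536 4096 = true := by decide +kernel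
theorem c2_k_17 : chkURange D2 C2 69632 4096 = true := by decide +kernel
theorem c2_k_18 : chkURange D2 C2 73728 4096 = true := by decide +kernel
theorem c2_k_19 : chkURange D2 C2 77824 4096 = true := by decide +kernel
theorem c2_k_20 : chkURange D2 C2 81920 4096 = true := by decide +kernel
theorem c2_k_21 : chkURange D2 C2 86016 4096 = true := by decide +kernel
theorem c2_k_22 : chkURange D2 C2 90112 4096 = true := by decide +kernel
theorem c2_k_23 : chkURange D2 C2 94208 4096 = true := by decide +kernel
theorem chkU2_1 (b : ℕ) (h1 : 49152 ≤ b) (h2 : b < 98304) : chkU D2 C2 b = true := by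
  rcases Nat.lt_or_ge b 53248 with g0 | g0
  · exact chkURange_spec D2 C2 49152 4096 c2_k_12 b (by omega) (by omega)
  rcases Nat.lt_or_ge b 57344 with g1 | g1
  · exact chkURange_spec D2 C2 53248 4096 c2_k_13 b (by omega) (by omega)
  rcases Nat.lt_or_ge b 61440 with g2 | g2
  · exact chkURange_spec D2 C2 57344 4096 c2_k_14 b (by omega) (by omega)
  rcases Nat.lt_or_ge b 65536 with g3 | g3
  · exact chkURange_spec D2 C2 61440 4096 c2_k_15 b (by omega) (by omega)
  rcases Nat.lt_or_ge b 69632 with g4 | g4
  · exact chkURange_spec D2 C2 65536 4096 c2_k_16 b (by omega) (by omega)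
  rcases Nat.lt_or_ge b 73728 with g5 | g5
  · exact chkURange_spec D2 C2 69632 4096 c2_k_17 b (by omega) (by omega)
  rcases Nat.lt_or_ge b 77824 with g6 | g6
  · exact chkURange_spec D2 C2 73728 4096 c2_k_18 b (by omega) (by omega)
  rcases Nat.lt_or_ge b 81920 with g7 | g7
  · exact chkURange_spec D2 C2 77824 4096 c2_k_19 b (by omega) (by omega)
  rcases Nat.lt_or_ge b 86016 with g8 | g8
  · exact chkURange_spec D2 C2 81920 4096 c2_k_20 b (by omega) (by omega)
  rcases Nat.lt_or_ge b 90112 with g9 | g9
  · exact chkURange_spec D2 C2 86016 4096 c2_k_21 b (by omega) (by omega)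
  rcases Nat.lt_or_ge b 94208 with g10 | g10
  · exact chkURange_spec D2 C2 90112 4096 c2_k_22 b (by omega) (by omega)
  exact chkURange_spec D2 C2 94208 4096 c2_k_23 b (by omega) (by omega)
end Cfsg.Agent.Lib.Helper4.ONM
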