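import Cfsg.Agent.Lib.Helper4.ONM.U2.Cert
set_option autoImplicit false
set_option maxRecDepth 1000000
set_option Elab.async false
namespace Cfsg.Agent.Lib.Helper4.ONM
open Cfsg.Agent.Lib.Helper4.Sparse
theorem c2_k_120 : chkURange D2 C2 491520 4096 = true := by decide +kernel
theorem c2_k_121 : chkURange D2 C2 495616 4096 = true := by decide +kernel
theorem c2_k_122 : chkURange D2 C2 499712 4096 = true := by decide +kernel
theorem c2_k_123 : chkURange D2 C2 503808 4096 = true := by decide +kernel
theorem c2_k_124 : chkURange D2 C2 507904 4096 = true := by decide +kernel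
theorem c2_k_125 : chkURange D2 C2 512000 4096 = true := by decide +kernel
theorem c2_k_126 : chkURange D2 C2 516096 4096 = true := by decide +kernel
theorem c2_k_127 : chkURange D2 C2 520192 4096 = true := by decide +kernel
theorem c2_k_128 : chkURange D2 C2 524288 4096 = true := by decide +kernel
theorem c2_k_129 : chkURange D2 C2 528384 4096 = true := by decide +kernel
theorem c2_k_130 : chkURange D2 C2 532480 4096 = true := by decide +kernel
theorem c2_k_131 : chkURange D2 C2 536576 4096 = true := by decide +kernel
theorem chkU2_10 (b : ℕ) (h1 : 491520 ≤ b) (h2 : b < 540672) : chkU D2 C2 b = true := by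
  rcases Nat.lt_or_ge b 495616 with g0 | g0
  · exact chkURange_spec D2 C2 491520 4096 c2_k_120 b (by omega) (by omega)
  rcases Nat.lt_or_ge b 499712 with g1 | g1
  · exact chkURange_spec D2 C2 495616 4096 c2_k_121 b (by omega) (by omega)
  rcases Nat.lt_or_ge b 503808 with g2 | g2
  · exact chkURange_spec D2 C2 499712 4096 c2_k_122 b (by omega) (by omega)
  rcases Nat.lt_or_ge b 507904 with g3 | g3
  · exact chkURange_spec D2 C2 503808 4096 c2_k_123 b (by omega) (by omega)
  rcases Nat.lt_or_ge b 512000 with g4 | g4
  · exact chkURange_spec D2 C2 507904 4096 c2_k_124 b (by omega) (by omega)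
  rcases Nat.lt_or_ge b 516096 with g5 | g5
  · exact chkURange_spec D2 C2 512000 4096 c2_k_125 b (by omega) (by omega)
  rcases Nat.lt_or_ge b 520192 with g6 | g6
  · exact chkURange_spec D2 C2 516096 4096 c2_k_126 b (by omega) (by omega)
  rcases Nat.lt_or_ge b 524288 with g7 | g7
  · exact chkURange_spec D2 C2 520192 4096 c2_k_127 b (by omega) (by omega)
  rcases Nat.lt_or_ge b 528384 with g8 | g8
  · exact chkURange_spec D2 C2 524288 4096 c2_k_128 b (by omega) (by omega)
  rcases Nat.lt_or_ge b 532480 with g9 | g9
  · exact chkURange_spec D2 C2 528384 4096 c2_k_129 b (by omega) (by omega)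
  rcases Nat.lt_or_ge b 536576 with g10 | g10
  · exact chkURange_spec D2 C2 532480 4096 c2_k_130 b (by omega) (by omega)
  exact chkURange_spec D2 C2 536576 4096 c2_k_131 b (by omega) (by omega)
end Cfsg.Agent.Lib.Helper4.ONM
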