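import Cfsg.Agent.Lib.Helper4.ONM.U2.Cert
set_option autoImplicit false
set_option maxRecDepth 1000000
set_option Elab.async false
namespace Cfsg.Agent.Lib.Helper4.ONM
open Cfsg.Agent.Lib.Helper4.Sparse
theorem c2_k_228 : chkURange D2 C2 933888 4096 = true := by decide +kernel
theorem c2_k_229 : chkURange D2 C2 937984 4096 = true := by decide +kernel
theorem c2_k_230 : chkURange D2 C2 942080 4096 = true := by decide +kernel
theorem c2_k_231 : chkURange D2 C2 946176 4096 = true := by decide +kernel
theorem c2_k_232 : chkURange D2 C2 950272 4096 = true := by decide +kernel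
theorem c2_k_233 : chkURange D2 C2 954368 4096 = true := by decide +kernel
theorem c2_k_234 : chkURange D2 C2 958464 4096 = true := by decide +kernel
theorem c2_k_235 : chkURange D2 C2 962560 4096 = true := by decide +kernel
theorem c2_k_236 : chkURange D2 C2 966656 4096 = true := by decide +kernel
theorem c2_k_237 : chkURange D2 C2 970752 4096 = true := by decide +kernel
theorem c2_k_238 : chkURange D2 C2 974848 4096 = true := by decide +kernel
theorem c2_k_239 : chkURange D2 C2 978944 3165 = true := by decide +kernel
theorem chkU2_19 (b : ℕ) (h1 : 933888 ≤ b) (h2 : b < 982109) : chkU D2 C2 b = true := by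
  rcases Nat.lt_or_ge b 937984 with g0 | g0
  · exact chkURange_spec D2 C2 933888 4096 c2_k_228 b (by omega) (by omega)
  rcases Nat.lt_or_ge b 942080 with g1 | g1
  · exact chkURange_spec D2 C2 937984 4096 c2_k_229 b (by omega) (by omega)
  rcases Nat.lt_or_ge b 946176 with g2 | g2
  · exact chkURange_spec D2 C2 942080 4096 c2_k_230 b (by omega) (by omega)
  rcases Nat.lt_or_ge b 950272 with g3 | g3
  · exact chkURange_spec D2 C2 946176 4096 c2_k_231 b (by omega) (by omega)
  rcases Nat.lt_or_ge b 954368 with g4 | g4
  · exact chkURange_spec D2 C2 950272 4096 c2_k_232 b (by omega) (by omega)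
  rcases Nat.lt_or_ge b 958464 with g5 | g5
  · exact chkURange_spec D2 C2 954368 4096 c2_k_233 b (by omega) (by omega)
  rcases Nat.lt_or_ge b 962560 with g6 | g6
  · exact chkURange_spec D2 C2 958464 4096 c2_k_234 b (by omega) (by omega)
  rcases Nat.lt_or_ge b 966656 with g7 | g7
  · exact chkURange_spec D2 C2 962560 4096 c2_k_235 b (by omega) (by omega)
  rcases Nat.lt_or_ge b 970752 with g8 | g8
  · exact chkURange_spec D2 C2 966656 4096 c2_k_236 b (by omega) (by omega)
  rcases Nat.lt_or_ge b 974848 with g9 | g9
  · exact chkURange_spec D2 C2 970752 4096 c2_k_237 b (by omega) (by omega)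
  rcases Nat.lt_or_ge b 978944 with g10 | g10
  · exact chkURange_spec D2 C2 974848 4096 c2_k_238 b (by omega) (by omega)
  exact chkURange_spec D2 C2 978944 3165 c2_k_239 b (by omega) (by omega)
end Cfsg.Agent.Lib.Helper4.ONM
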