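import Cfsg.Agent.Lib.Helper4.ONM.U2.Cert
set_option autoImplicit false
set_option maxRecDepth 1000000
set_option Elab.async false
namespace Cfsg.Agent.Lib.Helper4.ONM
open Cfsg.Agent.Lib.Helper4.Sparse
theorem c2_k_24 : chkURange D2 C2 98304 4096 = true := by decide +kernel
theorem c2_k_25 : chkURange D2 C2 102400 4096 = true := by decide +kernel
theorem c2_k_26 : chkURange D2 C2 106496 4096 = true := by decide +kernel
theorem c2_k_27 : chkURange D2 C2 110592 4096 = true := by decide +kernel
theorem c2_k_28 : chkURange D2 C2 114688 4096 = true := by decide +kernel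
theorem c2_k_29 : chkURange D2 C2 118784 4096 = true := by decide +kernel
theorem c2_k_30 : chkURange D2 C2 122880 4096 = true := by decide +kernel
theorem c2_k_31 : chkURange D2 C2 126976 4096 = true := by decide +kernel
theorem c2_k_32 : chkURange D2 C2 131072 4096 = true := by decide +kernel
theorem c2_k_33 : chkURange D2 C2 135168 4096 = true := by decide +kernel
theorem c2_k_34 : chkURange D2 C2 139264 4096 = true := by decide +kernel
theorem c2_k_35 : chkURange D2 C2 143360 4096 = true := by decide +kernel
theorem chkU2_2 (b : ℕ) (h1 : 98304 ≤ b) (h2 : b < 147456) : chkU D2 C2 b = true := by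
  rcases Nat.lt_or_ge b 102400 with g0 | g0
  · exact chkURange_spec D2 C2 98304 4096 c2_k_24 b (by omega) (by omega)
  rcases Nat.lt_or_ge b 106496 with g1 | g1
  · exact chkURange_spec D2 C2 102400 4096 c2_k_25 b (by omega) (by omega)
  rcases Nat.lt_or_ge b 110592 with g2 | g2
  · exact chkURange_spec D2 C2 106496 4096 c2_k_26 b (by omega) (by omega)
  rcases Nat.lt_or_ge b 114688 with g3 | g3
  · exact chkURange_spec D2 C2 110592 4096 c2_k_27 b (by omega) (by omega)
  rcases Nat.lt_or_ge b 118784 with g4 | g4
  · exact chkURange_spec D2 C2 114688 4096 c2_k_28 b (by omega) (by omega)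
  rcases Nat.lt_or_ge b 122880 with g5 | g5
  · exact chkURange_spec D2 C2 118784 4096 c2_k_29 b (by omega) (by omega)
  rcases Nat.lt_or_ge b 126976 with g6 | g6
  · exact chkURange_spec D2 C2 122880 4096 c2_k_30 b (by omega) (by omega)
  rcases Nat.lt_or_ge b 131072 with g7 | g7
  · exact chkURange_spec D2 C2 126976 4096 c2_k_31 b (by omega) (by omega)
  rcases Nat.lt_or_ge b 135168 with g8 | g8
  · exact chkURange_spec D2 C2 131072 4096 c2_k_32 b (by omega) (by omega)
  rcases Nat.lt_or_ge b 139264 with g9 | g9
  · exact chkURange_spec D2 C2 135168 4096 c2_k_33 b (by omega) (by omega)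
  rcases Nat.lt_or_ge b 143360 with g10 | g10
  · exact chkURange_spec D2 C2 139264 4096 c2_k_34 b (by omega) (by omega)
  exact chkURange_spec D2 C2 143360 4096 c2_k_35 b (by omega) (by omega)
end Cfsg.Agent.Lib.Helper4.ONM
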