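import Cfsg.Agent.Lib.Helper4.ONM.U2.Cert
set_option autoImplicit false
set_option maxRecDepth 1000000
set_option Elab.async false
namespace Cfsg.Agent.Lib.Helper4.ONM
open Cfsg.Agent.Lib.Helper4.Sparse
theorem c2_k_108 : chkURange D2 C2 442368 4096 = true := by decide +kernel
theorem c2_k_109 : chkURange D2 C2 446464 4096 = true := by decide +kernel
theorem c2_k_110 : chkURange D2 C2 450560 4096 = true := by decide +kernel
theorem c2_k_111 : chkURange D2 C2 454656 4096 = true := by decide +kernel
theorem c2_k_112 : chkURange D2 C2 458752 4096 = true := by decide +kernel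
theorem c2_k_113 : chkURange D2 C2 462848 4096 = true := by decide +kernel
theorem c2_k_114 : chkURange D2 C2 466944 4096 = true := by decide +kernel
theorem c2_k_115 : chkURange D2 C2 471040 4096 = true := by decide +kernel
theorem c2_k_116 : chkURange D2 C2 475136 4096 = true := by decide +kernel
theorem c2_k_117 : chkURange D2 C2 479232 4096 = true := by decide +kernel
theorem c2_k_118 : chkURange D2 C2 483328 4096 = true := by decide +kernel
theorem c2_k_119 : chkURange D2 C2 487424 4096 = true := by decide +kernel
theorem chkU2_9 (b : ℕ) (h1 : 442368 ≤ b) (h2 : b < 491520) : chkU D2 C2 b = true := by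
  rcases Nat.lt_or_ge b 446464 with g0 | g0
  · exact chkURange_spec D2 C2 442368 4096 c2_k_108 b (by omega) (by omega)
  rcases Nat.lt_or_ge b 450560 with g1 | g1
  · exact chkURange_spec D2 C2 446464 4096 c2_k_109 b (by omega) (by omega)
  rcases Nat.lt_or_ge b 454656 with g2 | g2
  · exact chkURange_spec D2 C2 450560 4096 c2_k_110 b (by omega) (by omega)
  rcases Nat.lt_or_ge b 458752 with g3 | g3
  · exact chkURange_spec D2 C2 454656 4096 c2_k_111 b (by omega) (by omega)
  rcases Nat.lt_or_ge b 462848 with g4 | g4
  · exact chkURange_spec D2 C2 458752 4096 c2_k_112 b (by omega) (by omega)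
  rcases Nat.lt_or_ge b 466944 with g5 | g5
  · exact chkURange_spec D2 C2 462848 4096 c2_k_113 b (by omega) (by omega)
  rcases Nat.lt_or_ge b 471040 with g6 | g6
  · exact chkURange_spec D2 C2 466944 4096 c2_k_114 b (by omega) (by omega)
  rcases Nat.lt_or_ge b 475136 with g7 | g7
  · exact chkURange_spec D2 C2 471040 4096 c2_k_115 b (by omega) (by omega)
  rcases Nat.lt_or_ge b 479232 with g8 | g8
  · exact chkURange_spec D2 C2 475136 4096 c2_k_116 b (by omega) (by omega)
  rcases Nat.lt_or_ge b 483328 with g9 | g9
  · exact chkURange_spec D2 C2 479232 4096 c2_k_117 b (by omega) (by omega)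
  rcases Nat.lt_or_ge b 487424 with g10 | g10
  · exact chkURange_spec D2 C2 483328 4096 c2_k_118 b (by omega) (by omega)
  exact chkURange_spec D2 C2 487424 4096 c2_k_119 b (by omega) (by omega)
end Cfsg.Agent.Lib.Helper4.ONM
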