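import Cfsg.Agent.Lib.Helper4.ONM.U2.K0
import Cfsg.Agent.Lib.Helper4.ONM.U2.K1
import Cfsg.Agent.Lib.Helper4.ONM.U2.K2
import Cfsg.Agent.Lib.Helper4.ONM.U2.K3
import Cfsg.Agent.Lib.Helper4.ONM.U2.K4
import Cfsg.Agent.Lib.Helper4.ONM.U2.K5
import Cfsg.Agent.Lib.Helper4.ONM.U2.K6
import Cfsg.Agent.Lib.Helper4.ONM.U2.K7
import Cfsg.Agent.Lib.Helper4.ONM.U2.K8
import Cfsg.Agent.Lib.Helper4.ONM.U2.K9
import Cfsg.Agent.Lib.Helper4.ONM.U2.K10
import Cfsg.Agent.Lib.Helper4.ONM.U2.K11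
import Cfsg.Agent.Lib.Helper4.ONM.U2.K12
import Cfsg.Agent.Lib.Helper4.ONM.U2.K13
import Cfsg.Agent.Lib.Helper4.ONM.U2.K14
import Cfsg.Agent.Lib.Helper4.ONM.U2.K15
import Cfsg.Agent.Lib.Helper4.ONM.U2.K16
import Cfsg.Agent.Lib.Helper4.ONM.U2.K17
import Cfsg.Agent.Lib.Helper4.ONM.U2.K18
import Cfsg.Agent.Lib.Helper4.ONM.U2.K19
set_option autoImplicit false

/-! # All the unknowns pass the check (prime 2) -/

namespace Cfsg.Agent.Lib.Helper4.ONM
open Cfsg.Agent.Lib.Helper4.Sparse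

theorem chkU2_all (b : ℕ) (hb : b < 982109) : chkU D2 C2 b = true := by
  rcases Nat.lt_or_ge b 49152 with g0 | g0
  · exact chkU2_0 b (by omega) g0
  rcases Nat.lt_or_ge b 98304 with g1 | g1
  · exact chkU2_1 b (by omega) g1
  rcases Nat.lt_or_ge b 147456 with g2 | g2
  · exact chkU2_2 b (by omega) g2
  rcases Nat.lt_or_ge b 196608 with g3 | g3
  · exact chkU2_3 b (by omega) g3
  rcases Nat.lt_or_ge b 245760 with g4 | g4
  · exact chkU2_4 b (by omega) g4
  rcases Nat.lt_or_ge b 294912 with g5 | g5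
  · exact chkU2_5 b (by omega) g5
  rcases Nat.lt_or_ge b 344064 with g6 | g6
  · exact chkU2_6 b (by omega) g6
  rcases Nat.lt_or_ge b 393216 with g7 | g7
  · exact chkU2_7 b (by omega) g7
  rcases Nat.lt_or_ge b 442368 with g8 | g8
  · exact chkU2_8 b (by omega) g8
  rcases Nat.lt_or_ge b 491520 with g9 | g9
  · exact chkU2_9 b (by omega) g9
  rcases Nat.lt_or_ge b 540672 with g10 | g10
  · exact chkU2_10 b (by omega) g10
  rcases Nat.lt_or_ge b 589824 with g11 | g11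
  · exact chkU2_11 b (by omega) g11
  rcases Nat.lt_or_ge b 638976 with g12 | g12
  · exact chkU2_12 b (by omega) g12
  rcases Nat.lt_or_ge b 688128 with g13 | g13
  · exact chkU2_13 b (by omega) g13
  rcases Nat.lt_or_ge b 737280 with g14 | g14
  · exact chkU2_14 b (by omega) g14
  rcases Nat.lt_or_ge b 786432 with g15 | g15
  · exact chkU2_15 b (by omega) g15
  rcases Nat.lt_or_ge b 835584 with g16 | g16
  · exact chkU2_16 b (by omega) g16
  rcases Nat.lt_or_ge b 884736 with g17 | g17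
  · exact chkU2_17 b (by omega) g17
  rcases Nat.lt_or_ge b 933888 with g18 | g18
  · exact chkU2_18 b (by omega) g18
  exact chkU2_19 b (by omega) hb

end Cfsg.Agent.Lib.Helper4.ONM
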