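import Cfsg.Agent.Lib.Helper4.ONM.U2.Cert
set_option autoImplicit false
set_option maxRecDepth 1000000
set_option Elab.async false
namespace Cfsg.Agent.Lib.Helper4.ONM
open Cfsg.Agent.Lib.Helper4.Sparse
theorem c2_k_0 : chkURange D2 C2 0 4096 = true := by decide +kernel
theorem c2_k_1 : chkURange D2 C2 4096 4096 = true := by decide +kernel
theorem c2_k_2 : chkURange D2 C2 8192 4096 = true := by decide +kernel
theorem c2_k_3 : chkURange D2 C2 12288 4096 = true := by decide +kernel
theorem c2_k_4 : chkURange D2 C2 16384 4096 = true := by decide +kernel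
theorem c2_k_5 : chkURange D2 C2 20480 4096 = true := by decide +kernel
theorem c2_k_6 : chkURange D2 C2 24576 4096 = true := by decide +kernel
theorem c2_k_7 : chkURange D2 C2 28672 4096 = true := by decide +kernel
theorem c2_k_8 : chkURange D2 C2 32768 4096 = true := by decide +kernel
theorem c2_k_9 : chkURange D2 C2 36864 4096 = true := by decide +kernel
theorem c2_k_10 : chkURange D2 C2 40960 4096 = true := by decide +kernel
theorem c2_k_11 : chkURange D2 C2 45056 4096 = true := by decide +kernel
theorem chkU2_0 (b : ℕ) (h1 : 0 ≤ b) (h2 : b < 49152) : chkU D2 C2 b = true := by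
  rcases Nat.lt_or_ge b 4096 with g0 | g0
  · exact chkURange_spec D2 C2 0 4096 c2_k_0 b (by omega) (by omega)
  rcases Nat.lt_or_ge b 8192 with g1 | g1
  · exact chkURange_spec D2 C2 4096 4096 c2_k_1 b (by omega) (by omega)
  rcases Nat.lt_or_ge b 12288 with g2 | g2
  · exact chkURange_spec D2 C2 8192 4096 c2_k_2 b (by omega) (by omega)
  rcases Nat.lt_or_ge b 16384 with g3 | g3
  · exact chkURange_spec D2 C2 12288 4096 c2_k_3 b (by omega) (by omega)
  rcases Nat.lt_or_ge b 20480 with g4 | g4
  · exact chkURange_spec D2 C2 16384 4096 c2_k_4 b (by omega) (by omega)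
  rcases Nat.lt_or_ge b 24576 with g5 | g5
  · exact chkURange_spec D2 C2 20480 4096 c2_k_5 b (by omega) (by omega)
  rcases Nat.lt_or_ge b 28672 with g6 | g6
  · exact chkURange_spec D2 C2 24576 4096 c2_k_6 b (by omega) (by omega)
  rcases Nat.lt_or_ge b 32768 with g7 | g7
  · exact chkURange_spec D2 C2 28672 4096 c2_k_7 b (by omega) (by omega)
  rcases Nat.lt_or_ge b 36864 with g8 | g8
  · exact chkURange_spec D2 C2 32768 4096 c2_k_8 b (by omega) (by omega)
  rcases Nat.lt_or_ge b 40960 with g9 | g9
  · exact chkURange_spec D2 C2 36864 4096 c2_k_9 b (by omega) (by omega)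
  rcases Nat.lt_or_ge b 45056 with g10 | g10
  · exact chkURange_spec D2 C2 40960 4096 c2_k_10 b (by omega) (by omega)
  exact chkURange_spec D2 C2 45056 4096 c2_k_11 b (by omega) (by omega)
end Cfsg.Agent.Lib.Helper4.ONM
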