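import Cfsg.Agent.Lib.Helper4.ONM.U2.Cert
set_option autoImplicit false
set_option maxRecDepth 1000000

/-! # The residual relations between the distinguished unknowns (prime 2) -/

namespace Cfsg.Agent.Lib.Helper4.ONM
open Cfsg.Agent.Lib.Helper4.Sparse

theorem res2_0 : chkResid D2 C2 8 37 34359738755 = true := by decide +kernel
theorem res2_1 : chkResid D2 C2 8 45 13194951131136 = true := by decide +kernel
theorem res2_2 : chkResid D2 C2 8 48 13194678534146 = true := by decide +kernel
theorem res2_3 : chkResid D2 C2 8 84 4194304 = true := by decide +kernel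
theorem res2_4 : chkResid D2 C2 8 87 4194306 = true := by decide +kernel
theorem res2_5 : chkResid D2 C2 8 88 4501398388738 = true := by decide +kernel
theorem res2_6 : chkResid D2 C2 8 117 4467036553472 = true := by decide +kernel
theorem res2_7 : chkResid D2 C2 8 118 13263668510979 = true := by decide +kernel
theorem res2_8 : chkResid D2 C2 8 331 8865080983809 = true := by decide +kernel
theorem res2_9 : chkResid D2 C2 8 532 1702113258242048 = true := by decide +kernel

/-- the residual relations -/
def res2 : List (ℕ × ℕ × ℕ) :=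
  [(8, 37, 34359738755), (8, 45, 13194951131136), (8, 48, 13194678534146), (8, 84, 4194304), (8, 87, 4194306), (8, 88, 4501398388738), (8, 117, 4467036553472), (8, 118, 13263668510979), (8, 331, 8865080983809), (8, 532, 1702113258242048)]

theorem hres2 : ∀ x ∈ res2, chkResid D2 C2 x.1 x.2.1 x.2.2 = true := by
  intro x hx
  simp only [res2, List.mem_cons, List.mem_nil_iff, or_false] at hx
  rcases hx with rfl | rfl | rfl | rfl | rfl | rfl | rfl | rfl | rfl | rfl
  · exact res2_0
  · exact res2_1
  · exact res2_2
  · exact res2_3
  · exact res2_4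
  · exact res2_5
  · exact res2_6
  · exact res2_7
  · exact res2_8
  · exact res2_9

/-- the target relations -/
def tgt2 : ℕ → ℕ := fun i => List.getD [2, 128, 16387, 2097155, 268435456, 34359738371, 4398046511107, 562949953421312] i 0

/-- the combinations of the residual relations giving the target relations -/
def comb2 : ℕ → List ℕ := fun i => List.getD [[4, 3], [8, 8, 7, 5, 5, 5, 4, 2, 2, 0], [8, 8, 8, 7, 7, 6, 3, 2], [7, 7, 7, 1, 0, 0], [8, 8, 3, 2, 1, 1, 1], [7, 7, 7, 6, 5, 5, 5, 1], [7, 7, 7, 6, 2], [9, 9, 9, 8, 8, 5, 5, 3, 2, 2, 2]] i []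

end Cfsg.Agent.Lib.Helper4.ONM
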