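import Cfsg.Agent.Lib.Helper4.ONM.U2.All
import Cfsg.Agent.Lib.Helper4.ONM.U2.VBa
set_option autoImplicit false

/-! # The bound on the values of the unknowns (prime 2) -/

namespace Cfsg.Agent.Lib.Helper4.ONM
open Cfsg.Agent.Lib.Helper1.StemSA Cfsg.Agent.Lib.Helper4.Sparse

universe u

theorem vb2 (hS : D2.chkStruct = true) : ValsBoundN.{u} D2 2 1 8 :=
  vb2_of hS chkU2_all

end Cfsg.Agent.Lib.Helper4.ONM
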